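import Mathlib
import Cfsg.Agent.Lib.Forms.Max.UnitaryInLinear

/-!
# Unitary similarity groups in the special linear group of dimension four
-/

set_option autoImplicit false
set_option linter.unusedSectionVars false

namespace Cfsg.Agent.Forms.Max.SL4.Unitary

open Matrix Cfsg.Agent.Aschbacher
open Cfsg.Agent.Forms.Max.UnitaryInLinear

variable {ι : Type} [Fintype ι] [DecidableEq ι] {F : Type*} [Field F] [Finite F]
variable {σ : F →+* F} {h : (ι → F) → (ι → F) → F}

/-- an isotropic vector with product one with `v`, orthogonal to `u` -/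
theorem exists_iso_value4 (hh : Herm σ h) (h4 : 4 ≤ Fintype.card ι) {u v : ι → F}
    (hv : v ∉ Submodule.span F {u}) : ∃ e, h e u = 0 ∧ h e v = 1 ∧ h e e = 0 := by
  obtain ⟨x, hxu, hxv⟩ := exists_perp_value hh hv
  by_cases hdeg : h u v = 0 ∧ h v v = 0
  · obtain ⟨a, ha⟩ := exists_trace_eq hh (self_fixed hh x)
    have hvx : h v x = 1 := by rw [hh.herm, hxv, map_one]
    refine ⟨x + a • v, by rw [hh.add, hh.smul, hxu, comm_zero hh hdeg.1, mul_zero, add_zero],
      by rw [hh.add, hh.smul, hxv, hdeg.2, mul_zero, add_zero], ?_⟩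
    simp only [hh.add, UnitaryInLinear.add_right hh, hh.smul, UnitaryInLinear.smul_right hh, hxv, hvx, hdeg.2]
    linear_combination ha
  · obtain ⟨z, hz, hzz⟩ := exists_norm_perp hh ![u, v] (Or.inr ⟨by omega, by
      rw [not_and_or] at hdeg
      rcases hdeg with h1 | h1
      · exact ⟨0, 1, h1⟩
      · exact ⟨1, 1, h1⟩⟩) (d := 1) (map_one σ)
    have hu : h z u = 0 := hz 0
    have hv' : h z v = 0 := hz 1
    have hfix : σ (h x z * σ (h x z) - h x x) = h x z * σ (h x z) - h x x := by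
      rw [map_sub, map_mul, hh.inv, self_fixed hh, mul_comm]
    obtain ⟨r, hr⟩ := Bases.exists_norm_eq σ hh.ne_id hh.inv _ hfix
    refine ⟨x + (r - h x z) • z, by rw [hh.add, hh.smul, hxu, hu, mul_zero, add_zero],
      by rw [hh.add, hh.smul, hxv, hv', mul_zero, add_zero], ?_⟩
    simp only [hh.add, UnitaryInLinear.add_right hh, hh.smul, UnitaryInLinear.smul_right hh, hzz,
      map_sub, show h z x = σ (h x z) from hh.herm z x]
    linear_combination hr

/-- orthogonal to an anisotropic vector and a hyperbolic pair every norm occurs -/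
theorem exists_norm_perp_three (hh : Herm σ h) (h4 : 4 ≤ Fintype.card ι) {u f v : ι → F}
    (huu : h u u ≠ 0) (huf : h u f = 0) (huv : h u v = 0) (hff : h f f = 0) (hvv : h v v = 0)
    (hfv : h f v = 1) {d : F} (hd : σ d = d) : ∃ z, (∀ i, h z (![u, f, v] i) = 0) ∧ h z z = d := by
  classical
  have hvf : h v f = 1 := by rw [hh.herm, hfv, map_one]
  let L : (ι → F) →ₗ[F] (Fin 3 → F) := LinearMap.pi fun i => form hh (![u, f, v] i)
  obtain ⟨z, hz, hz0⟩ : ∃ z ∈ LinearMap.ker L, z ≠ 0 := by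
    have h3 := LinearMap.finrank_range_add_finrank_ker L
    have h5 := Submodule.finrank_le (LinearMap.range L)
    rw [Module.finrank_fintype_fun_eq_card] at h3 h5
    rw [Fintype.card_fin] at h5
    exact Submodule.exists_mem_ne_zero_of_ne_bot (fun e => by rw [e, finrank_bot] at h3; omega)
  have hzc : ∀ i, h z (![u, f, v] i) = 0 := fun i => congrFun hz i
  obtain ⟨y, hy, hyy⟩ : ∃ y, (∀ i, h y (![u, f, v] i) = 0) ∧ h y y ≠ 0 := by
    by_cases hzz : h z z = 0
    · obtain ⟨x, hx⟩ := exists_value_one hh hz0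
      have hzu : h z u = 0 := hzc 0
      have hzf : h z f = 0 := hzc 1
      have hzv : h z v = 0 := hzc 2
      obtain ⟨x', hx'⟩ : ∃ x', x' = x - h x v • f - h x f • v - (h x u / h u u) • u := ⟨_, rfl⟩
      have hfu : h f u = 0 := comm_zero hh huf
      have hvu : h v u = 0 := comm_zero hh huv
      have hp : ∀ i, h x' (![u, f, v] i) = 0 := by
        intro i
        fin_cases i
        · simp [hx', sub_left hh, hh.smul, hfu, hvu, huu]
        · simp [hx', sub_left hh, hh.smul, hff, hvf, huf]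
        · simp [hx', sub_left hh, hh.smul, hfv, hvv, huv]
      have hxz : h x' z = 1 := by
        simp [hx', sub_left hh, hh.smul, hx, comm_zero hh hzu, comm_zero hh hzf, comm_zero hh hzv]
      have hzx : h z x' = 1 := by rw [hh.herm, hxz, map_one]
      by_cases hx0 : h x' x' = 0
      · obtain ⟨e, he⟩ := exists_trace hh
        refine ⟨x' + e • z, fun i => by rw [hh.add, hh.smul, hp i, hzc i, mul_zero, add_zero], ?_⟩
        simp only [hh.add, UnitaryInLinear.add_right hh, hh.smul, UnitaryInLinear.smul_right hh, hxz, hzx,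
          hzz, hx0]
        intro e0
        exact he (by linear_combination e0)
      · exact ⟨x', hp, hx0⟩
    · exact ⟨z, hzc, hzz⟩
  obtain ⟨c, hc⟩ := Bases.exists_norm_eq σ hh.ne_id hh.inv (d / h y y)
    (by rw [map_div₀, hd, self_fixed hh])
  refine ⟨c • y, fun i => by rw [hh.smul, hy i, mul_zero], ?_⟩
  rw [hh.smul, UnitaryInLinear.smul_right hh, ← mul_assoc, mul_comm c, hc, div_mul_cancel₀ _ hyy]

theorem exists_isotropic4 (hh : Herm σ h) (h4 : 4 ≤ Fintype.card ι) :
    ∃ v : ι → F, v ≠ 0 ∧ h v v = 0 := by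
  obtain ⟨z, -, hz⟩ := exists_norm_perp hh (fun _ : Fin 1 => 0) (Or.inl (by omega)) (d := 1) (map_one σ)
  have hz0 : z ≠ 0 := fun e => by rw [e, zero_right hh] at hz; exact one_ne_zero hz.symm
  obtain ⟨e, -, hez, hee⟩ := exists_iso_value4 hh h4 (u := 0) (v := z) (by simpa using hz0)
  refine ⟨e, fun e0 => ?_, hee⟩
  rw [e0] at hez
  have h0 := hh.smul 0 0 z
  rw [zero_smul, zero_mul, hez] at h0
  exact one_ne_zero h0

/-- a root pair outside the unitary group may be moved to one with anisotropic centre -/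
theorem exists_aniso_pair (hh : Herm σ h) {M : Subgroup (GL ι F)}
    (hvv : ∀ v, h v v = 0 → RP σ h M v v) {u w : ι → F} (hu : u ≠ 0) (p : RP σ h M u w)
    (hw : w ∉ Submodule.span F {u}) :
    ∃ u' w', u' ≠ 0 ∧ RP σ h M u' w' ∧ w' ∉ Submodule.span F {u'} ∧ h u' u' ≠ 0 := by
  by_cases huu : h u u = 0
  swap
  · exact ⟨u, w, hu, p, hw, huu⟩
  obtain ⟨a, ha0, ha⟩ := exists_skew hh
  obtain ⟨e₁, he₁⟩ := exists_trace hh
  have he0 : e₁ ≠ 0 := fun e0 => he₁ (by rw [e0, map_zero, add_zero])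
  obtain ⟨β, hβ⟩ : ∃ β, β = σ (e₁ / σ a) := ⟨_, rfl⟩
  have hsa : σ a ≠ 0 := by simpa using ha0
  have hβ0 : σ β ≠ 0 := by rw [hβ, hh.inv]; exact div_ne_zero he0 hsa
  obtain ⟨y, hyu, hyw⟩ := exists_perp_value hh hw
  have hwu : u ∉ Submodule.span F {w} := fun hm => by
    obtain ⟨t, rfl⟩ := Submodule.mem_span_singleton.1 hm
    have ht : t ≠ 0 := fun e0 => hu (by rw [e0, zero_smul])
    exact hw (Submodule.mem_span_singleton.2 ⟨t⁻¹, inv_smul_smul₀ ht w⟩)
  obtain ⟨y', hy'w, hy'u⟩ := exists_perp_value hh hwu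
  obtain ⟨x, hx⟩ : ∃ x, x = y + β • y' := ⟨_, rfl⟩
  have hxu : h x u = β := by rw [hx, hh.add, hh.smul, hyu, hy'u, mul_one, zero_add]
  have hxw : h x w = 1 := by rw [hx, hh.add, hh.smul, hyw, hy'w, mul_zero, add_zero]
  obtain ⟨t', ht'⟩ := exists_trace_eq hh (self_fixed hh x)
  obtain ⟨v, hvdef⟩ : ∃ v, v = x + (t' / σ β) • u := ⟨_, rfl⟩
  have hvu : h v u = β := by rw [hvdef, hh.add, hh.smul, hxu, huu, mul_zero, add_zero]
  have hvw : h v w = 1 := by rw [hvdef, hh.add, hh.smul, hxw, p.1, mul_zero, add_zero]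
  have hux : h u x = σ β := by rw [hh.herm, hxu]
  have hviso : h v v = 0 := by
    rw [hvdef]
    simp only [hh.add, UnitaryInLinear.add_right hh, hh.smul, UnitaryInLinear.smul_right hh, hxu, hux, huu,
      map_div₀, hh.inv, mul_zero, add_zero]
    have hβ' : β ≠ 0 := fun e0 => hβ0 (by rw [e0, map_zero])
    field_simp
    linear_combination ht'
  have hv0 : v ≠ 0 := fun e0 => by
    have h00 := hh.smul 0 0 w
    rw [zero_smul, zero_mul, ← e0, hvw] at h00
    exact one_ne_zero h00
  obtain ⟨-, k, hk, happ⟩ := p.2 a ha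
  have hkv : (k : Matrix ι ι F) *ᵥ v = v + σ a • u := by
    rw [happ, UnitaryInLinear.smul_right hh, hvw, mul_one]
  obtain ⟨w', hw'⟩ := exists_repr hh ((form hh v).comp
    (Matrix.toLin' ((k⁻¹ : GL ι F) : Matrix ι ι F)))
  have hw'' : ∀ x, h x w' = h (((k⁻¹ : GL ι F) : Matrix ι ι F) *ᵥ x) v := fun x => by
    rw [hw']; simp [Matrix.toLin'_apply, form]
  have pw := (hvv v hviso).map hh hk hw''
  have hnorm : h ((k : Matrix ι ι F) *ᵥ v) ((k : Matrix ι ι F) *ᵥ v) = e₁ + σ e₁ := by
    rw [hkv]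
    simp only [hh.add, UnitaryInLinear.add_right hh, hh.smul, UnitaryInLinear.smul_right hh, hviso, huu, hvu,
      show h u v = σ β by rw [hh.herm, hvu], hh.inv, mul_zero, add_zero, zero_add]
    rw [hβ, hh.inv, map_div₀, hh.inv]
    field_simp
    ring
  refine ⟨_, w', mulVec_ne_zero k hv0, pw, fun hm => ?_, hnorm.symm ▸ he₁⟩
  obtain ⟨t, ht⟩ := Submodule.mem_span_singleton.1 hm
  have h1 := pw.1
  rw [← ht, UnitaryInLinear.smul_right hh, hnorm] at h1
  have ht0 : σ t = 0 := (mul_eq_zero.1 h1).resolve_right he₁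
  have ht00 : t = 0 := by simpa using ht0
  refine hv0 (right_ext hh fun x => ?_)
  have := hw'' ((k : Matrix ι ι F) *ᵥ x)
  rw [← ht, ht00, zero_smul, zero_right hh, inv_mulVec_cancel] at this
  rw [zero_right hh]
  exact this.symm

variable {M : Subgroup (GL ι F)}

theorem similarity_maximal4 (hh : Herm σ h) (h4 : 4 ≤ Fintype.card ι)
    (H : Subgroup (GL ι F)) (hH : H ≤ Cfsg.Geo.specialLinear ι F)
    (hmem : ∀ g : GL ι F, g ∈ H ↔ g ∈ Cfsg.Geo.specialLinear ι F ∧
      ∃ c : Fˣ, ∀ u v, h ((g : Matrix ι ι F) *ᵥ u) ((g : Matrix ι ι F) *ᵥ v) = (c : F) * h u v) :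
    Cfsg.Geo.IsMaximalIn (Cfsg.Geo.specialLinear ι F) H := by
  classical
  have hrow : ∀ w : ι → F, ∃ φ : ι → F, ∀ x, φ ⬝ᵥ x = h x w := fun w => exists_row (form hh w)
  -- transvections
  have htv : ∀ (v : ι → F) (c : F), h v v = 0 → ∃ g ∈ Cfsg.Geo.specialLinear ι F,
      (∀ x, (g : Matrix ι ι F) *ᵥ x = x + (c * h x v) • v) ∧
      ∀ x y, h ((g : Matrix ι ι F) *ᵥ x) ((g : Matrix ι ι F) *ᵥ y) =
        h x y + (c + σ c) * (h x v * h v y) := by
    intro v c hv
    obtain ⟨φ, hφ⟩ := hrow (σ c • v)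
    have h0 : φ ⬝ᵥ v = 0 := by rw [hφ, UnitaryInLinear.smul_right hh, hv, mul_zero]
    have happ : ∀ x, (trv v φ h0 : Matrix ι ι F) *ᵥ x = x + (c * h x v) • v := fun x => by
      rw [trv_mulVec, hφ, UnitaryInLinear.smul_right hh, hh.inv]
    refine ⟨trv v φ h0, trv_mem_SL _ _ _, happ, fun x y => ?_⟩
    rw [happ, happ]
    simp only [hh.add, UnitaryInLinear.add_right hh, hh.smul, UnitaryInLinear.smul_right hh, hv, map_mul, ← hh.herm v y]
    ring
  obtain ⟨e₁, he₁⟩ := exists_trace hh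
  obtain ⟨τ, hτ0, hτ⟩ := exists_skew hh
  refine isMaximalIn_of hH (fun hle => ?_) fun M hM hMK g hgM hg => ?_
  · -- a transvection that is no similarity
    obtain ⟨v, hv0, hvv⟩ := exists_isotropic4 hh h4
    obtain ⟨x, hxv⟩ := exists_value_one hh hv0
    obtain ⟨z, hz, hzz⟩ := exists_norm_perp hh ![v] (Or.inl (by omega)) (d := 1) (map_one σ)
    obtain ⟨k, hk, -, hform⟩ := htv v e₁ hvv
    obtain ⟨-, c, hc⟩ := (hmem _).1 (hle hk)
    have h1 := hc z z
    rw [hform, show h z v = 0 from hz 0, zero_mul, mul_zero, add_zero, hzz, mul_one] at h1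
    have h2 := hc x x
    rw [hform, ← h1, one_mul, hxv, hh.herm v x, hxv, map_one, mul_one, mul_one, add_eq_left] at h2
    exact he₁ h2
  -- unitary transvections lie in `M`
  have htH : ∀ (v : ι → F) (c : F), h v v = 0 → σ c = -c →
      ∃ g ∈ M, (∀ x, (g : Matrix ι ι F) *ᵥ x = x + (c * h x v) • v) ∧
        ∀ x y, h ((g : Matrix ι ι F) *ᵥ x) ((g : Matrix ι ι F) *ᵥ y) = h x y := by
    intro v c hv hc
    obtain ⟨k, hk, happ, hform⟩ := htv v c hv
    refine ⟨k, hM ((hmem _).2 ⟨hk, 1, fun x y => ?_⟩), happ, fun x y => ?_⟩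
    · rw [hform, hc, add_neg_cancel, zero_mul, add_zero, Units.val_one, one_mul]
    · rw [hform, hc, add_neg_cancel, zero_mul, add_zero]
  have hvv : ∀ v, h v v = 0 → RP σ h M v v := fun v hv => ⟨hv, fun a ha => by
    obtain ⟨k, hk, happ, -⟩ := htH v (σ a) hv (by rw [hh.inv, ha, neg_neg])
    exact ⟨by rw [UnitaryInLinear.smul_right hh, hv, mul_zero], k, hk, fun x => by rw [happ, UnitaryInLinear.smul_right hh]⟩⟩
  -- an independent root pair
  obtain ⟨u₁, w₁, hu₁, p₁, hw₁⟩ : ∃ u w, u ≠ 0 ∧ RP σ h M u w ∧ w ∉ Submodule.span F {u} := by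
    by_contra hcon
    push Not at hcon
    -- no full root pair
    have hfull : ∀ u, u ≠ 0 → h u u = 0 → ∀ l : F, RP σ h M u (l • u) → σ l = l := by
      intro u hu huu l pl
      by_contra hl
      have hl' : l - σ l ≠ 0 := sub_ne_zero.2 (Ne.symm hl)
      have pall : ∀ c : F, RP σ h M u (c • u) := fun c => by
        set s := (c - σ c) / (l - σ l) with hs
        have hs' : σ s = s := by
          rw [hs, map_div₀, map_sub, map_sub, hh.inv, hh.inv, ← neg_sub c, ← neg_sub l, neg_div_neg_eq]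
        have hsl : s * (l - σ l) = c - σ c := div_mul_cancel₀ _ hl'
        have hr : σ (c - s * l) = c - s * l := by
          rw [map_sub, map_mul, hs']
          linear_combination hsl
        have := ((hvv u huu).smul_fixed hh hr).add_right hh (pl.smul_fixed hh hs')
        rwa [smul_smul, ← add_smul, sub_add_cancel] at this
      obtain ⟨v, -, hvu, hv⟩ := exists_iso_value4 hh h4 (u := 0) (v := u) (by simpa using hu)
      have huv : h u v = 1 := by rw [hh.herm, hvu, map_one]
      obtain ⟨-, k, hk, happ⟩ := (pall (τ⁻¹ * σ e₁)).2 τ hτ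
      simp only [smul_smul, ← mul_assoc, mul_inv_cancel₀ hτ0, one_mul, UnitaryInLinear.smul_right hh, hh.inv] at happ
      have hw : ∀ x, h x (v - σ e₁ • u) = h (((k⁻¹ : GL ι F) : Matrix ι ι F) *ᵥ x) v := fun x => by
        set y := ((k⁻¹ : GL ι F) : Matrix ι ι F) *ᵥ x with hy
        have hx : x = y + (e₁ * h y u) • u := by rw [← happ, hy, mulVec_inv_cancel]
        rw [hx, sub_eq_add_neg, UnitaryInLinear.add_right hh, neg_right hh, UnitaryInLinear.smul_right hh, hh.inv]
        simp only [hh.add, hh.smul, huv, huu]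
        ring
      have hkv : (k : Matrix ι ι F) *ᵥ v = v + e₁ • u := by rw [happ, hvu, mul_one]
      have hne : v + e₁ • u ≠ 0 := fun e => by
        have := congrArg (fun y => h y u) e
        simp only [hh.add, hh.smul, hvu, huu, mul_zero, add_zero] at this
        have h00 := hh.smul 0 0 u
        rw [zero_smul, zero_mul] at h00
        rw [h00] at this
        exact one_ne_zero this
      obtain ⟨t, ht⟩ := Submodule.mem_span_singleton.1
        (hcon _ _ hne (hkv ▸ (hvv v hv).map hh hk hw))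
      have ht1 := congrArg (fun y => h y u) ht
      simp only [hh.add, hh.smul, sub_left hh, hvu, huu, mul_zero, add_zero, sub_zero, mul_one] at ht1
      have ht2 := congrArg (fun y => h y v) ht
      simp only [hh.add, hh.smul, sub_left hh, huv, hv, mul_one, zero_add, zero_sub, ht1, one_mul] at ht2
      exact he₁ (eq_neg_iff_add_eq_zero.1 ht2)
    -- `g` is a similarity
    refine hg ((hmem g).2 ⟨hMK hgM, ?_⟩)
    obtain ⟨G, hG⟩ : ∃ G : (ι → F) →ₗ[F] (ι → F), ∀ x, G x = (g : Matrix ι ι F) *ᵥ x :=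
      ⟨Matrix.toLin' (g : Matrix ι ι F), fun x => Matrix.toLin'_apply _ x⟩
    have hadj : ∀ v, ∃ a, ∀ x, h x a = h (G x) (G v) := fun v =>
      exists_repr hh ((form hh (G v)).comp G)
    choose A hA using hadj
    have hsa : ∀ x y, h x (A y) = h (A x) y := fun x y => by
      rw [hA, hh.herm (A x) y, hA, ← hh.herm]
    have hAadd : ∀ a b, A (a + b) = A a + A b := fun a b => right_ext hh fun x => by
      rw [UnitaryInLinear.add_right hh, hA, hA, hA, map_add, UnitaryInLinear.add_right hh]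
    have hAsmul : ∀ (c : F) a, A (c • a) = c • A a := fun c a => right_ext hh fun x => by
      rw [UnitaryInLinear.smul_right hh, hA, hA, map_smul, UnitaryInLinear.smul_right hh]
    have heig : ∀ v, h v v = 0 → v ≠ 0 → ∃ r : F, r ≠ 0 ∧ σ r = r ∧ A v = r • v := by
      intro v hv hv0
      obtain ⟨w', hw'⟩ := exists_repr hh ((form hh v).comp
        (Matrix.toLin' ((g⁻¹ : GL ι F) : Matrix ι ι F)))
      have hw'' : ∀ x, h x w' = h (((g⁻¹ : GL ι F) : Matrix ι ι F) *ᵥ x) v := fun x => by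
        rw [hw']; simp [Matrix.toLin'_apply, form]
      have hgv := mulVec_ne_zero g hv0
      have pw := (hvv v hv).map hh hgM hw''
      obtain ⟨t, ht⟩ := Submodule.mem_span_singleton.1 (hcon _ _ hgv pw)
      have ht0 : t ≠ 0 := fun h0 => hv0 (right_ext hh fun x => by
        have := hw'' ((g : Matrix ι ι F) *ᵥ x)
        rw [← ht, h0, zero_smul, zero_right hh, inv_mulVec_cancel] at this
        rw [zero_right hh]
        exact this.symm)
      have hgvv : h ((g : Matrix ι ι F) *ᵥ v) ((g : Matrix ι ι F) *ᵥ v) = 0 := by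
        have := pw.1
        rw [← ht, UnitaryInLinear.smul_right hh] at this
        exact (mul_eq_zero.1 this).resolve_left (by simpa using ht0)
      have htf : σ t = t := hfull _ hgv hgvv t (ht.symm ▸ pw)
      refine ⟨t⁻¹, inv_ne_zero ht0, by rw [map_inv₀, htf], right_ext hh fun x => ?_⟩
      rw [hA, hG, hG, UnitaryInLinear.smul_right hh, map_inv₀, htf]
      have := hw'' ((g : Matrix ι ι F) *ᵥ x)
      rw [← ht, UnitaryInLinear.smul_right hh, htf, inv_mulVec_cancel] at this
      rw [← this, inv_mul_cancel_left₀ ht0]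
    obtain ⟨e, he0, hee⟩ := exists_isotropic4 hh h4
    obtain ⟨f, -, hfe, hff⟩ := exists_iso_value4 hh h4 (u := 0) (v := e) (by simpa using he0)
    obtain ⟨r, hr0, hr, hAe⟩ := heig e hee he0
    have hmove : ∀ v, h v v = 0 → h v e ≠ 0 → A v = r • v := by
      intro v hv hve
      obtain ⟨s, -, hs, hAv⟩ := heig v hv (fun e0 => hve (by
        rw [e0]; simpa using hh.smul 0 0 e))
      have := hsa v e
      rw [hAe, hAv, UnitaryInLinear.smul_right hh, hr, hh.smul] at this
      rw [hAv, mul_right_cancel₀ hve this]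
    have hall : ∀ x, A x = r • x := fun x => mem_of_iso_lines hh (fun y => A y = r • y)
      (fun a b ha hb => by rw [hAadd, ha, hb, smul_add]) (u := 0) (zero_right hh e) (zero_right hh f)
      hee hff hfe (fun c => by rw [hAsmul, hAe, smul_comm])
      (fun c => by rw [hAsmul, hmove f hff (by rw [hfe]; exact one_ne_zero), smul_comm])
      (fun v _ hv hve c => by rw [hAsmul, hmove v hv hve, smul_comm]) (zero_right hh x)
    refine ⟨Units.mk0 r hr0, fun a b => ?_⟩
    rw [← hG, ← hG, ← hA, hall, UnitaryInLinear.smul_right hh, hr, Units.val_mk0]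
  -- the first vector may be taken anisotropic
  obtain ⟨u₀, w₀, hu₀, p₀, hw₀, huu₀⟩ := exists_aniso_pair hh hvv hu₁ p₁ hw₁
  -- `u₀` is a centre
  have hline : ∀ w, RP σ h M u₀ w → ∀ v, h v u₀ = 0 → h v v = 0 → h w v ≠ 0 →
      ∀ c : F, RP σ h M u₀ (c • v) := by
    have hstep : ∀ w, RP σ h M u₀ w → ∀ v, h v u₀ = 0 → h v v = 0 → ∀ μ : F, σ μ = -μ →
        RP σ h M u₀ ((μ * h w v) • v) := by
      intro w pw v hvu hv μ hμ
      obtain ⟨k, hk, happ, hform⟩ := htH v μ hv hμ
      have hw' : ∀ x, h x ((k : Matrix ι ι F) *ᵥ w) = h (((k⁻¹ : GL ι F) : Matrix ι ι F) *ᵥ x) w :=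
        fun x => by rw [← hform (((k⁻¹ : GL ι F) : Matrix ι ι F) *ᵥ x) w, mulVec_inv_cancel]
      have h2 := pw.map hh hk hw'
      rw [happ u₀, comm_zero hh hvu, mul_zero, zero_smul, add_zero, happ w] at h2
      have := h2.add_right hh (pw.smul_fixed hh (t := (-1 : F)) (by simp))
      rwa [neg_one_smul, add_neg_cancel_comm] at this
    intro w pw v hvu hv hwv c
    have hvu0 : v ∉ Submodule.span F {u₀} := by
      intro hm
      obtain ⟨t, rfl⟩ := Submodule.mem_span_singleton.1 hm
      exact hwv (by rw [UnitaryInLinear.smul_right hh, comm_zero hh pw.1, mul_zero])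
    obtain ⟨f, hfu, hfv, hff⟩ := exists_iso_value4 hh h4 hvu0
    have hvf : h v f = 1 := by rw [hh.herm, hfv, map_one]
    -- choose `a` and the multiple of `z` so that the coefficient is `c`
    obtain ⟨z₁, hz₁, hzz₁⟩ := exists_norm_perp_three hh h4 huu₀ (comm_zero hh hfu) (comm_zero hh hvu) hff hv hfv (d := 1) (map_one σ)
    obtain ⟨a₀, ha₀⟩ : ∃ x, x = σ ((c / (τ * τ) - h w f) / h w v) := ⟨_, rfl⟩
    obtain ⟨κ, hκ⟩ : ∃ x, x = σ (h w z₁ / h w v) := ⟨_, rfl⟩
    obtain ⟨e₀, he₀⟩ := Bases.exists_norm_eq σ hh.ne_id hh.inv (κ * σ κ - (a₀ + σ a₀))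
      (by rw [map_sub, map_add, map_mul, hh.inv κ, hh.inv a₀, mul_comm, add_comm (σ a₀)])
    obtain ⟨lam, hlam⟩ : ∃ x, x = σ κ + e₀ := ⟨_, rfl⟩
    obtain ⟨a, ha⟩ : ∃ x, x = a₀ - lam * κ := ⟨_, rfl⟩
    obtain ⟨z, hz'⟩ : ∃ x, x = lam • z₁ := ⟨_, rfl⟩
    have hzz : h z z = -(a + σ a) := by
      rw [hz', hh.smul, UnitaryInLinear.smul_right hh, hzz₁, ha, map_sub, map_mul, hlam, map_add, hh.inv]
      linear_combination he₀
    have hzu : h z u₀ = 0 := by rw [hz', hh.smul, show h z₁ u₀ = 0 from hz₁ 0, mul_zero]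
    have hzf : h z f = 0 := by rw [hz', hh.smul, show h z₁ f = 0 from hz₁ 1, mul_zero]
    have hzv : h z v = 0 := by rw [hz', hh.smul, show h z₁ v = 0 from hz₁ 2, mul_zero]
    set va := f + z + a • v with hva
    have hvau : h va u₀ = 0 := by simp [hva, hh.add, hh.smul, hfu, hzu, hvu]
    have hvav : h va v = 1 := by simp [hva, hh.add, hh.smul, hfv, hzv, hv]
    have hvaa : h va va = 0 := by
      simp only [hva, hh.add, UnitaryInLinear.add_right hh, hh.smul, UnitaryInLinear.smul_right hh, hv, hff, hfv, hvf, hzv, hzf, hzz,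
        comm_zero hh hzv, comm_zero hh hzf]
      ring
    have h1 := hstep _ (hstep w pw va hvau hvaa τ hτ) v hvu hv τ hτ
    convert h1 using 2
    rw [hh.smul, hvav, mul_one, hva, UnitaryInLinear.add_right hh, UnitaryInLinear.add_right hh, UnitaryInLinear.smul_right hh, hz', UnitaryInLinear.smul_right hh, ha,
      map_sub, map_mul, ha₀, hκ, hh.inv, hh.inv, sub_mul, div_mul_cancel₀ _ hwv, mul_assoc (σ lam),
      div_mul_cancel₀ _ hwv]
    field_simp
    ring
  have hall : ∀ x, h x u₀ = 0 → RP σ h M u₀ x := by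
    have hu₀w : u₀ ∉ Submodule.span F {u₀} → False := fun e => e (Submodule.mem_span_singleton_self _)
    obtain ⟨e, heu, hew, hee⟩ := exists_iso_value4 hh h4 hw₀
    have hwe : h w₀ e ≠ 0 := by rw [hh.herm, hew, map_one]; exact one_ne_zero
    have he := hline w₀ p₀ e heu hee hwe
    have hene : e ∉ Submodule.span F {u₀} := by
      intro hm
      obtain ⟨t, rfl⟩ := Submodule.mem_span_singleton.1 hm
      rw [hh.smul, p₀.1, mul_zero] at hew
      exact zero_ne_one hew
    obtain ⟨f, hfu, hfe, hff⟩ := exists_iso_value4 hh h4 hene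
    have he1 : RP σ h M u₀ e := by simpa using he 1
    have hf := hline e he1 f hfu hff (by rw [hh.herm, hfe, map_one]; exact one_ne_zero)
    exact fun x hx => mem_of_iso_lines hh (fun y => RP σ h M u₀ y) (fun a b ha hb => ha.add_right hh hb)
      heu hfu hee hff hfe he hf
      (fun v hvu hv hve => hline e he1 v hvu hv (fun e0 => hve (comm_zero hh e0))) hx
  have hcen : u₀ ∈ centres M := fun φ hφ => by
    obtain ⟨w, hw⟩ := exists_repr hh
      { toFun := fun x => φ ⬝ᵥ x
        map_add' := fun a b => dotProduct_add φ a b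
        map_smul' := fun t a => dotProduct_smul t φ a }
    have hw' : ∀ x, h x w = φ ⬝ᵥ x := hw
    have hperp : h (τ⁻¹ • w) u₀ = 0 := by
      rw [hh.smul, comm_zero hh (show h u₀ w = 0 by rw [hw']; exact hφ), mul_zero]
    obtain ⟨-, k, hk, happ⟩ := (hall _ hperp).2 τ hτ
    have hke : k = trv u₀ φ hφ := gl_ext fun x => by
      rw [happ, smul_smul, mul_inv_cancel₀ hτ0, one_smul, trv_mulVec, hw']
    exact hke ▸ hk
  have h0c : (0 : ι → F) ∈ centres M := by simpa using centres_smul 0 hcen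
  have hcadd : ∀ a b, a ∈ centres M → b ∈ centres M → a + b ∈ centres M := fun a b ha hb => by
    by_cases hm : a ∈ Submodule.span F {b}
    · obtain ⟨t, rfl⟩ := Submodule.mem_span_singleton.1 hm
      have := centres_smul (t + 1) hb
      rwa [add_smul, one_smul] at this
    · obtain ⟨φ, hφb, hφa⟩ := exists_row_of_not_mem hm
      have := centres_map (hb φ (hφb b (Submodule.mem_span_singleton_self _))) ha
      rwa [trv_mulVec, hφa, one_smul] at this
  have hcmove : ∀ u v, u ∈ centres M → h v v = 0 → h u v ≠ 0 → v ∈ centres M := fun u v hu hv huv => by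
    obtain ⟨k, hk, happ, -⟩ := htH v τ hv hτ
    have h1 := centres_map hk hu
    rw [happ] at h1
    have h2 := centres_smul (τ * h u v)⁻¹ (hcadd _ _ h1 (centres_smul (-1) hu))
    rwa [neg_one_smul, add_neg_cancel_comm, inv_smul_smul₀ (mul_ne_zero hτ0 huv)] at h2
  obtain ⟨e, -, heu, hee⟩ := exists_iso_value4 hh h4 (u := 0) (v := u₀) (by simpa using hu₀)
  have he0 : e ≠ 0 := fun e0 => by
    rw [e0, show h 0 u₀ = 0 by simpa using hh.smul 0 0 u₀] at heu
    exact zero_ne_one heu
  have hec := hcmove u₀ e hcen hee (by rw [hh.herm, heu, map_one]; exact one_ne_zero)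
  obtain ⟨f, -, hfe, hff⟩ := exists_iso_value4 hh h4 (u := 0) (v := e) (by simpa using he0)
  have hfc := hcmove e f hec hff (by rw [hh.herm, hfe, map_one]; exact one_ne_zero)
  refine specialLinear_le_of_centres fun x => mem_of_iso_lines hh (fun y => y ∈ centres M) hcadd
    (u := 0) (zero_right hh e) (zero_right hh f) hee hff hfe (fun c => centres_smul c hec)
    (fun c => centres_smul c hfc)
    (fun v _ hv hve c => centres_smul c (hcmove e v hec hv fun e0 => hve (comm_zero hh e0)))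
    (zero_right hh x)

/-- the conjunct on unitary forms of S5780 -/
theorem maximal {K : Type*} [Field K] [Fintype K] :
    ∀ (σ : K ≃+* K) (f : (Fin 4 → K) → (Fin 4 → K) → K), Cfsg.Geo.IsUnitaryForm σ f →
      Cfsg.Geo.IsMaximalIn (Cfsg.Geo.specialLinear (Fin 4) K)
        (Cfsg.Geo.similarityGroup f ⊓ Cfsg.Geo.specialLinear (Fin 4) K) := by
  intro σ f hf
  classical
  have hh : Herm (σ : K →+* K) f :=
    { ne_id := fun e => hf.ne_refl (RingEquiv.ext fun a => RingHom.congr_fun e a)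
      inv := hf.involutive
      add := hf.add_left
      smul := hf.smul_left
      herm := hf.herm
      nd := fun v hv => by
        by_contra h0
        obtain ⟨x, hx⟩ := (hf.nondegenerate v h0).2
        exact hx (hv x) }
  exact similarity_maximal4 hh (by rw [Fintype.card_fin]) _ inf_le_right
    fun g => ⟨fun h => ⟨h.2, h.1⟩, fun h => ⟨h.2, h.1⟩⟩

end Cfsg.Agent.Forms.Max.SL4.Unitary
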