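import Cfsg.Agent.Lib.Classical.OrthIso
import Cfsg.Agent.Lib.Classical.Wedge
import Cfsg.Agent.Lib.Classical.GL2
import Cfsg.Agent.Lib.Forms.PlusStd

/-!
# The special linear group of degree four onto the commutator group of the hyperbolic quadratic form of degree six

The homomorphism, its kernel, and its image, in odd characteristic.
-/

set_option autoImplicit false
set_option linter.unusedSectionVars false

namespace Cfsg.Agent.Forms.Max.SL4.Klein

open Matrix Cfsg.Agent.Classical Cfsg.Agent.Classical.OrthForms Cfsg.Agent.Forms.PlusStd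

set_option linter.unusedVariables false

variable {F : Type*} [Field F]

/-- coordinates -/
def klein : (Fin 3 ⊕ Fin 3 → F) ≃ₗ[F] (Fin 6 → F) where
  toFun v := ![v (.inl 0), v (.inl 1), v (.inl 2), v (.inr 2), -v (.inr 1), v (.inr 0)]
  map_add' u v := by funext i; fin_cases i <;> simp <;> ring
  map_smul' c v := by funext i; fin_cases i <;> simp
  invFun x := Sum.elim ![x 0, x 1, x 2] ![x 5, -x 4, x 3]
  left_inv v := by funext i; rcases i with i | i <;> fin_cases i <;> simp
  right_inv x := by funext i; fin_cases i <;> simp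

/-- the action on the exterior square -/
def wedgeHom : SpecialLinearGroup (Fin 4) F →* Module.End F (Fin 6 → F) where
  toFun g := Wedge.wedge (g : Matrix (Fin 4) (Fin 4) F)
  map_one' := Wedge.wedge_one
  map_mul' g h := Wedge.wedge_mul _ _

theorem preserves (g : SpecialLinearGroup (Fin 4) F) (v : Fin 3 ⊕ Fin 3 → F) :
    plusQ F 3 (OrthIso.conjRep klein wedgeHom g v) = plusQ F 3 v := by
  have hpf : ∀ w : Fin 3 ⊕ Fin 3 → F, plusQ F 3 w = Wedge.pf (klein w) := fun w => by
    simp [plusQ_apply, Cfsg.quadFormPlus, Fin.sum_univ_three, Wedge.pf, klein]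
  rw [hpf, hpf, OrthIso.conjRep_apply, LinearEquiv.apply_symm_apply]
  exact (Wedge.pf_wedge _ _).trans (by rw [g.2, one_mul])

/-- the homomorphism -/
noncomputable def hom : SpecialLinearGroup (Fin 4) F →* Cfsg.isometryGroup F ⇑(plusQ F 3) :=
  OrthIso.repHom (plusQ F 3) (OrthIso.conjRep klein wedgeHom) preserves

theorem hom_mulVec (g : SpecialLinearGroup (Fin 4) F) (v : Fin 3 ⊕ Fin 3 → F) :
    ((hom g : Matrix.GeneralLinearGroup (Fin 3 ⊕ Fin 3) F) : Matrix (Fin 3 ⊕ Fin 3) (Fin 3 ⊕ Fin 3) F) *ᵥ v =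
      klein.symm (Wedge.wedge (g : Matrix (Fin 4) (Fin 4) F) (klein v)) :=
  OrthIso.repHom_mulVec _ _ preserves g v

theorem hom_eq_one_iff (g : SpecialLinearGroup (Fin 4) F) :
    hom g = 1 ↔ ∀ x, Wedge.wedge (g : Matrix (Fin 4) (Fin 4) F) x = x := by
  rw [hom, OrthIso.repHom_eq_one, OrthIso.conjRep_eq_iff]
  rfl

variable [Fintype F]

theorem hperf : commutator (SpecialLinearGroup (Fin 4) F) = ⊤ := Linear.commutator_SL_eq_top (by simp)

theorem ker_le_center : (hom (F := F)).ker ≤ Subgroup.center _ := by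
  have hsimp : IsSimpleGroup (SpecialLinearGroup (Fin 4) F ⧸
      Subgroup.center (SpecialLinearGroup (Fin 4) F)) :=
    Linear.isSimpleGroup_PSL_fin (by norm_num) (by norm_num)
  refine OrthIso.le_center_of_simple hperf _ fun htop => ?_
  have h := congrFun ((hom_eq_one_iff (SpecialLinearGroup.transvection (show (0 : Fin 4) ≠ 1 by decide) 1)).1
    (htop ▸ Subgroup.mem_top _ : _ ∈ (hom (F := F)).ker) (Pi.single 4 1)) 2
  simp [Wedge.wedge, Wedge.coords, Wedge.altMat, SpecialLinearGroup.transvection_coe,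
    Matrix.mul_apply, Fin.sum_univ_four, Matrix.single, Matrix.one_apply] at h

theorem center_scalar {g : SpecialLinearGroup (Fin 4) F} (hg : g ∈ Subgroup.center _) :
    (g : Matrix (Fin 4) (Fin 4) F) = (g 0 0) • 1 := by
  obtain ⟨r, -, hr⟩ := Matrix.SpecialLinearGroup.mem_center_iff.1 hg
  rw [← hr, smul_one_eq_diagonal]
  simp

/-- the kernel consists of the two signs -/
theorem of_hom_eq_one {g : SpecialLinearGroup (Fin 4) F} (hg : hom g = 1) :
    (g : Matrix (Fin 4) (Fin 4) F) = 1 ∨ (g : Matrix (Fin 4) (Fin 4) F) = -1 := by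
  have hs := center_scalar (ker_le_center (MonoidHom.mem_ker.2 hg))
  have h := congrFun ((hom_eq_one_iff g).1 hg (Pi.single 0 1)) 0
  rw [hs, Wedge.wedge_smul_one] at h
  simp only [Pi.smul_apply, Pi.single_eq_same, smul_eq_mul, mul_one] at h
  rcases sq_eq_one_iff.1 h with e | e <;> rw [hs, e]
  · exact Or.inl (one_smul _ _)
  · exact Or.inr (neg_one_smul _ _)

/-- the image -/
theorem range_eq (h2 : (2 : F) ≠ 0) : (hom (F := F)).range = Cfsg.Omega F ⇑(plusQ F 3) := by
  have hcardk : Nat.card (hom (F := F)).ker = 2 := by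
    rw [OrthIso.natCard_scalar_eq (hom (F := F)).ker (fun g => g 0 0) (fun g hg h hh he => ?_) (fun g hg => ?_)
      (fun c hc => ?_), OrthIso.natCard_sq_one_odd h2]
    · refine GL2.sl_ext ?_
      rw [center_scalar (ker_le_center hg), center_scalar (ker_le_center hh), show g 0 0 = h 0 0 from he]
    · rcases of_hom_eq_one (MonoidHom.mem_ker.1 hg) with e | e <;> simp [e]
    · refine ⟨⟨c • 1, ?_⟩, MonoidHom.mem_ker.2 ((hom_eq_one_iff _).2 fun x => ?_), ?_⟩
      · rw [det_smul, det_one, mul_one, Fintype.card_fin]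
        linear_combination (c ^ 2 + 1) * hc
      · exact (Wedge.wedge_smul_one c x).trans (by rw [hc, one_smul])
      · show (c • (1 : Matrix (Fin 4) (Fin 4) F)) 0 0 = c
        simp
  have hle : (hom (F := F)).range ≤ Cfsg.Omega F ⇑(plusQ F 3) :=
    OrthIso.range_le_omega _ hom fun f => OrthIso.hom_eq_one_of_perfect hperf (fun a b => by
      obtain ⟨a, rfl⟩ := QuotientGroup.mk'_surjective _ a
      obtain ⟨b, rfl⟩ := QuotientGroup.mk'_surjective _ b
      exact mul_comm (Abelianization.of a) (Abelianization.of b)) f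
  have hcard : Nat.card (SpecialLinearGroup (Fin 4) F) * 2 =
      Nat.card (Cfsg.isometryGroup F ⇑(plusQ F 3)) := by
    have hq : 1 < Fintype.card F := Fintype.one_lt_card
    refine Nat.eq_of_mul_eq_mul_left (show 0 < Fintype.card F - 1 by omega) ?_
    rw [← mul_assoc, Linear.mul_natCard_SL_fin (by norm_num),
      natCard_O_plus (rfl : Fintype.card F = _) 2, Fin.prod_univ_four, Finset.prod_range_succ,
      Finset.prod_range_succ, Finset.prod_range_zero]
    simp only [Fin.val_zero, Fin.val_one, Fin.val_two, show ((3 : Fin 4) : ℕ) = 3 from rfl]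
    obtain ⟨r, hr⟩ : ∃ r, Fintype.card F = r + 2 := ⟨Fintype.card F - 2, by omega⟩
    rw [hr]
    have e : ∀ n, 1 ≤ (r + 2) ^ n := fun n => Nat.one_le_pow _ _ (by omega)
    have e' : ∀ a b, a ≤ b → (r + 2) ^ a ≤ (r + 2) ^ b :=
      fun a b h => Nat.pow_le_pow_right (by omega) h
    zify [e 3, e 2, e 4, e' 0 4 (by omega), e' 1 4 (by omega), e' 2 4 (by omega),
      e' 3 4 (by omega), show 1 ≤ r + 2 by omega]
    ring
  refine Subgroup.eq_of_le_of_card_ge hle (le_of_eq ?_)
  have h1 : Nat.card (hom (F := F)).range * Nat.card (hom (F := F)).ker =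
      Nat.card (SpecialLinearGroup (Fin 4) F) := by
    rw [← Subgroup.index_ker, mul_comm, Subgroup.card_mul_index]
  have h2' := Subgroup.card_mul_index (Cfsg.Omega F ⇑(plusQ F 3))
  rw [OrthIso.index_omega _ (plusQ_nondeg F 3) (by simp) (Or.inr (by simp)),
    OrthIso.natCard_sq_one_odd h2, ← hcard, ← h1, hcardk] at h2'
  omega

end Cfsg.Agent.Forms.Max.SL4.Klein
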