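import Mathlib
import Cfsg.Agent.Lib.Forms.Max.LinearDecomp
import Cfsg.Agent.Lib.Forms.Max.SL4.Lines.Small
import Cfsg.Agent.Lib.Forms.Max.SL4.Lines.Half

/-!
# Stabilisers of four lines are maximal in the special linear group of degree four

A group above the monomial one contains, for each of its elements and each column, the homology with that centre
and the matching row of the inverse.  Unless the group is everything these homologies are monomial, or, when the
factor has to be minus one, have two coordinates of weight one half; then a conjugate torus element is not of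
this shape.
-/

set_option autoImplicit false
set_option linter.unusedSectionVars false

namespace Cfsg.Agent.Forms.Max.SL4.Lines

open Matrix Cfsg.Agent.Aschbacher Cfsg.Agent.Forms.Max Cfsg.Agent.Forms.Max.LinearMono
open Cfsg.Agent.Forms.Max.LinearDecomp (PermM glOf glOf_mulVec pr)

variable {F : Type*} [Field F] [Fintype F]

theorem exists_param (hq : 7 ≤ Fintype.card F) : ∃ a μ : F, a ^ 4 * μ = 1 ∧ μ ≠ 1 ∧
    ((μ ≠ -1 ∧ μ ^ 2 ≠ -1) ∨ (μ = -1 ∧ (2 : F) ≠ 0)) := by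
  classical
  by_cases hA : (2 : F) ≠ 0 ∧ ∃ b : F, b ^ 4 = -1
  · obtain ⟨h2, b, hb⟩ := hA
    exact ⟨b, -1, by rw [hb]; ring, fun e => h2 (by linear_combination -e), Or.inr ⟨rfl, h2⟩⟩
  obtain ⟨b, hb⟩ : ∃ b : F, b ∉ ((Polynomial.X ^ 4 - Polynomial.C (1 : F)).roots.toFinset ∪ {0}) := by
    by_contra hc
    push Not at hc
    have k1 := Finset.card_le_card (show (Finset.univ : Finset F) ⊆
      (Polynomial.X ^ 4 - Polynomial.C (1 : F)).roots.toFinset ∪ {0} from fun x _ => hc x)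
    have k2 := Finset.card_union_le (Polynomial.X ^ 4 - Polynomial.C (1 : F)).roots.toFinset {0}
    have k3 := (Multiset.toFinset_card_le (Polynomial.X ^ 4 - Polynomial.C (1 : F)).roots).trans
      ((Polynomial.card_roots' _).trans (by rw [Polynomial.natDegree_X_pow_sub_C]))
    rw [Finset.card_univ] at k1
    rw [Finset.card_singleton] at k2
    omega
  simp only [Finset.mem_union, Multiset.mem_toFinset, Finset.mem_singleton, not_or,
    Polynomial.mem_roots (Polynomial.X_pow_sub_C_ne_zero (by norm_num : 0 < 4) (1 : F)), Polynomial.IsRoot.def,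
    Polynomial.eval_sub, Polynomial.eval_pow, Polynomial.eval_X, Polynomial.eval_C, sub_eq_zero] at hb
  obtain ⟨hb4, hb0⟩ := hb
  have h0 : b ^ 4 ≠ 0 := pow_ne_zero _ hb0
  refine ⟨b, (b ^ 4)⁻¹, mul_inv_cancel₀ h0, fun e => hb4 (inv_eq_one.1 e), Or.inl ⟨fun e => ?_, fun e => ?_⟩⟩
  · by_cases h2 : (2 : F) = 0
    · exact hb4 (inv_eq_one.1 (by linear_combination e - h2))
    · exact hA ⟨h2, b, by rw [← inv_inv (b ^ 4), e, inv_neg, inv_one]⟩
  · by_cases h2 : (2 : F) = 0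
    · have h1 : ((b ^ 4)⁻¹ - 1) ^ 2 = 0 := by linear_combination e - (b ^ 4)⁻¹ * h2
      exact hb4 (inv_eq_one.1 (sub_eq_zero.1 (pow_eq_zero_iff (by norm_num) |>.1 h1)))
    · refine hA ⟨h2, (b * b)⁻¹, ?_⟩
      rw [← e, inv_pow, inv_pow]; ring_nf

/-- four lines -/
theorem mono_le {M : Subgroup (GL (Fin 4) F)} (hN : AboveMono M) (hq : 7 ≤ Fintype.card F) {g : GL (Fin 4) F}
    (hg : g ∈ M) (hgm : ¬ Mono g) : Cfsg.Geo.specialLinear (Fin 4) F ≤ M := by
  classical
  by_contra hno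
  obtain ⟨a, μ, hpow, hne, hcases⟩ := exists_param (F := F) hq
  have S : Std M a μ := ⟨hN, hpow, hne, hno⟩
  have hcol : ∀ {x : GL (Fin 4) F}, x ∈ M → ∀ k, Hy M a μ (fun i => (x : Matrix (Fin 4) (Fin 4) F) i k)
      (fun i => ((x⁻¹ : GL (Fin 4) F) : Matrix (Fin 4) (Fin 4) F) k i) := fun {x} hx k => by
    have := hy_conj (hy_axis S k) hx
    rwa [show (x : Matrix (Fin 4) (Fin 4) F) *ᵥ E F k = fun i => (x : Matrix (Fin 4) (Fin 4) F) i k from
      funext fun i => LinearMono.col_apply x i k, show E F k ᵥ* ((x⁻¹ : GL (Fin 4) F) : Matrix (Fin 4) (Fin 4) F) =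
      fun i => ((x⁻¹ : GL (Fin 4) F) : Matrix (Fin 4) (Fin 4) F) k i from funext fun i => row_apply x⁻¹ k i] at this
  obtain ⟨p, i, j, hij, hi, hj⟩ : ∃ p i j, i ≠ j ∧ (g : Matrix (Fin 4) (Fin 4) F) i p ≠ 0 ∧
      (g : Matrix (Fin 4) (Fin 4) F) j p ≠ 0 := by
    by_contra hc
    push Not at hc
    refine hgm fun p => ?_
    by_cases h : ∃ i, (g : Matrix (Fin 4) (Fin 4) F) i p ≠ 0
    · obtain ⟨i, hi⟩ := h
      exact ⟨i, fun k hk => hc p i k hk.symm hi⟩
    · push Not at h; exact ⟨0, fun k _ => h k⟩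
  rcases hcases with ⟨hμ, hμ2⟩ | ⟨hμ, h2⟩
  · exact supp_one S hμ hμ2 hq (hcol hg p) hij hi hj
  obtain ⟨hz, hvi, hvj⟩ := supp_half S hμ h2 hq (hcol hg p) hij hi hj
  have hgp : ((g⁻¹ : GL (Fin 4) F) : Matrix (Fin 4) (Fin 4) F) p i ≠ 0 ∧ ((g⁻¹ : GL (Fin 4) F) : Matrix (Fin 4) (Fin 4) F) p j ≠ 0 :=
    ⟨fun e => hi ((bal S (hcol hg p) i).2 e), fun e => hj ((bal S (hcol hg p) j).2 e)⟩
  have hmul : (g : Matrix (Fin 4) (Fin 4) F) * ((g⁻¹ : GL (Fin 4) F) : Matrix (Fin 4) (Fin 4) F) = 1 := by rw [← Units.val_mul, mul_inv_cancel, Units.val_one]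
  have hmul' : ((g⁻¹ : GL (Fin 4) F) : Matrix (Fin 4) (Fin 4) F) * (g : Matrix (Fin 4) (Fin 4) F) = 1 := by rw [← Units.val_mul, inv_mul_cancel, Units.val_one]
  obtain ⟨k, l, hd⟩ := others_two hij
  obtain ⟨d1, d2, d3, d4, d5, d6⟩ := id hd
  -- another column at `i` has the same support
  have hsame : ∀ q, q ≠ p → (g : Matrix (Fin 4) (Fin 4) F) i q ≠ 0 →
      (g : Matrix (Fin 4) (Fin 4) F) j q ≠ 0 ∧ 2 * ((g : Matrix (Fin 4) (Fin 4) F) i q * ((g⁻¹ : GL (Fin 4) F) : Matrix (Fin 4) (Fin 4) F) q i) = 1 ∧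
        2 * ((g : Matrix (Fin 4) (Fin 4) F) j q * ((g⁻¹ : GL (Fin 4) F) : Matrix (Fin 4) (Fin 4) F) q j) = 1 := by
    intro q hqp hiq
    have hjq : (g : Matrix (Fin 4) (Fin 4) F) j q ≠ 0 := fun e => by
      have h0 := congrFun (congrFun hmul' p) q
      rw [Matrix.mul_apply, sum_four hd, Matrix.one_apply_ne hqp.symm, e, mul_zero, add_zero,
        (bal S (hcol hg p) k).1 (hz k d2.symm d4.symm), (bal S (hcol hg p) l).1 (hz l d3.symm d5.symm), zero_mul,
        zero_mul, add_zero, add_zero] at h0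
      exact mul_ne_zero hgp.1 hiq h0
    exact ⟨hjq, (supp_half S hμ h2 hq (hcol hg q) hij hiq hjq).2⟩
  obtain ⟨q, r, s, hd'⟩ := others_one p
  obtain ⟨e1, e2, e3, e4, e5, e6⟩ := id hd'
  -- a torus element separating the two columns
  obtain ⟨ρ, hρ⟩ : ∃ ρ : F, ρ ∉ ((Polynomial.X ^ 4 - Polynomial.C (1 : F)).roots.toFinset ∪ {0}) := by
    by_contra hc
    push Not at hc
    have k1 := Finset.card_le_card (show (Finset.univ : Finset F) ⊆
      (Polynomial.X ^ 4 - Polynomial.C (1 : F)).roots.toFinset ∪ {0} from fun x _ => hc x)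
    have k2 := Finset.card_union_le (Polynomial.X ^ 4 - Polynomial.C (1 : F)).roots.toFinset {0}
    have k3 := (Multiset.toFinset_card_le (Polynomial.X ^ 4 - Polynomial.C (1 : F)).roots).trans
      ((Polynomial.card_roots' _).trans (by rw [Polynomial.natDegree_X_pow_sub_C]))
    rw [Finset.card_univ] at k1
    rw [Finset.card_singleton] at k2
    omega
  simp only [Finset.mem_union, Multiset.mem_toFinset, Finset.mem_singleton, not_or,
    Polynomial.mem_roots (Polynomial.X_pow_sub_C_ne_zero (by norm_num : 0 < 4) (1 : F)), Polynomial.IsRoot.def,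
    Polynomial.eval_sub, Polynomial.eval_pow, Polynomial.eval_X, Polynomial.eval_C, sub_eq_zero] at hρ
  obtain ⟨hρ4, hρ0⟩ := hρ
  -- exactly one further column
  obtain ⟨q, r, s, hd', hq1, hr1, hs1⟩ : ∃ q r s, Dist p q r s ∧ (g : Matrix (Fin 4) (Fin 4) F) i q ≠ 0 ∧
      (g : Matrix (Fin 4) (Fin 4) F) i r = 0 ∧ (g : Matrix (Fin 4) (Fin 4) F) i s = 0 := by
    have h0 := congrFun (congrFun hmul i) i
    rw [Matrix.mul_apply, sum_four hd', Matrix.one_apply_eq] at h0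
    by_cases a1 : (g : Matrix (Fin 4) (Fin 4) F) i q = 0 <;> by_cases a2 : (g : Matrix (Fin 4) (Fin 4) F) i r = 0 <;>
      by_cases a3 : (g : Matrix (Fin 4) (Fin 4) F) i s = 0
    · rw [a1, a2, a3] at h0
      exact absurd (show (1 : F) = 0 by linear_combination hvi - 2 * h0) one_ne_zero
    · exact ⟨s, q, r, ⟨e3, e1, e2, e5.symm, e6.symm, e4⟩, a3, a1, a2⟩
    · exact ⟨r, q, s, ⟨e2, e1, e3, e4.symm, e6, e5⟩, a2, a1, a3⟩
    · have := (hsame r e2.symm a2).2.1
      have := (hsame s e3.symm a3).2.1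
      rw [a1] at h0
      exact absurd (show (1 : F) = 0 by linear_combination 2 * h0 - hvi - (hsame r e2.symm a2).2.1 - this) one_ne_zero
    · exact ⟨q, r, s, hd', a1, a2, a3⟩
    · have := (hsame s e3.symm a3).2.1
      rw [a2] at h0
      exact absurd (show (1 : F) = 0 by linear_combination 2 * h0 - hvi - (hsame q e1.symm a1).2.1 - this) one_ne_zero
    · have := (hsame r e2.symm a2).2.1
      rw [a3] at h0
      exact absurd (show (1 : F) = 0 by linear_combination 2 * h0 - hvi - (hsame q e1.symm a1).2.1 - this) one_ne_zero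
    · have := (hsame r e2.symm a2).2.1
      have := (hsame s e3.symm a3).2.1
      exact absurd (show (2 : F) = 0 by
        linear_combination 2 * h0 - hvi - (hsame q e1.symm a1).2.1 - (hsame r e2.symm a2).2.1 - this) h2
  obtain ⟨hjq, hwi, hwj⟩ := hsame q hd'.1.symm hq1
  obtain ⟨e1, e2, e3, e4, e5, e6⟩ := id hd'
  have hir' : ((g⁻¹ : GL (Fin 4) F) : Matrix (Fin 4) (Fin 4) F) r i = 0 := (bal S (hcol hg r) i).1 hr1
  have his' : ((g⁻¹ : GL (Fin 4) F) : Matrix (Fin 4) (Fin 4) F) s i = 0 := (bal S (hcol hg s) i).1 hs1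
  set t : Fin 4 → Fˣ := fun x => if x = p then Units.mk0 ρ hρ0 else if x = r then (Units.mk0 ρ hρ0)⁻¹ else 1
  have htp : (t p : F) = ρ := by simp [t]
  have htq : (t q : F) = 1 := by simp [t, e1.symm, e4]
  have htM : mon 1 t ∈ M := mon_mem hN (by rw [prod_two e2]; simp [hρ0])
  set x := g * mon 1 t * g⁻¹
  have hx : x ∈ M := mul_mem (mul_mem hg htM) (inv_mem hg)
  have hent : ∀ (w : GL (Fin 4) F) (T : Fin 4 → F), (∀ y z, (w : Matrix (Fin 4) (Fin 4) F) y z = if y = z then T z else 0) →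
      ∀ y, ((g * w * g⁻¹ : GL (Fin 4) F) : Matrix (Fin 4) (Fin 4) F) y i =
        (g : Matrix (Fin 4) (Fin 4) F) y p * T p * ((g⁻¹ : GL (Fin 4) F) : Matrix (Fin 4) (Fin 4) F) p i + (g : Matrix (Fin 4) (Fin 4) F) y q * T q * ((g⁻¹ : GL (Fin 4) F) : Matrix (Fin 4) (Fin 4) F) q i := by
    intro w T hw y
    rw [Units.val_mul, Units.val_mul, Matrix.mul_apply, sum_four hd', hir', his', mul_zero, mul_zero, add_zero,
      add_zero]
    congr 2 <;>
    · rw [Matrix.mul_apply, Finset.sum_eq_single_of_mem _ (Finset.mem_univ _) (fun z _ hz => by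
        rw [hw, if_neg hz, mul_zero]), hw, if_pos rfl]
  have hmt : ∀ y z, (mon 1 t : Matrix (Fin 4) (Fin 4) F) y z = if y = z then (t z : F) else 0 := fun y z => by
    rw [mon_apply, Equiv.Perm.one_apply]
  have hmt' : ∀ y z, (((mon 1 t)⁻¹ : GL (Fin 4) F) : Matrix (Fin 4) (Fin 4) F) y z =
      if y = z then (t z : F)⁻¹ else 0 := by
    have : ((mon 1 t)⁻¹ : GL (Fin 4) F) = mon 1 fun z => (t z)⁻¹ := by
      refine inv_eq_of_mul_eq_one_left (gl_ext fun v => funext fun y => ?_)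
      have a1 := mon_mulVec 1 (fun z => (t z)⁻¹) ((mon 1 t : Matrix (Fin 4) (Fin 4) F) *ᵥ v) y
      have a2 := mon_mulVec 1 t v y
      rw [Equiv.Perm.one_apply] at a1 a2
      rw [mulVec_mul_GL, a1, a2, Units.val_one, one_mulVec]
      simp
    intro y z
    rw [this, mon_apply, Equiv.Perm.one_apply]
    simp
  have hxi : (x : Matrix (Fin 4) (Fin 4) F) i i * 2 = ρ + 1 := by
    rw [hent _ _ hmt i, htp, htq]; linear_combination ρ * hvi + hwi
  have hxi' : ((x⁻¹ : GL (Fin 4) F) : Matrix (Fin 4) (Fin 4) F) i i * 2 = ρ⁻¹ + 1 := by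
    rw [show x⁻¹ = g * (mon 1 t)⁻¹ * g⁻¹ by simp [x, mul_assoc], hent _ _ hmt' i, htp, htq, inv_one]
    linear_combination ρ⁻¹ * hvi + hwi
  have hxj : (x : Matrix (Fin 4) (Fin 4) F) j i ≠ 0 := by
    have h0 := congrFun (congrFun hmul j) i
    rw [Matrix.mul_apply, sum_four hd', Matrix.one_apply_ne hij.symm, hir', his', mul_zero, mul_zero, add_zero,
      add_zero] at h0
    rw [hent _ _ hmt j, htp, htq]
    intro e
    exact mul_ne_zero (mul_ne_zero hj hgp.1) (sub_ne_zero.2 fun e' : ρ = 1 => hρ4 (by rw [e']; ring))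
      (show (g : Matrix (Fin 4) (Fin 4) F) j p * ((g⁻¹ : GL (Fin 4) F) : Matrix (Fin 4) (Fin 4) F) p i * (ρ - 1) = 0 by linear_combination e - h0)
  have hxi0 : (x : Matrix (Fin 4) (Fin 4) F) i i ≠ 0 := fun e => by
    rw [e, zero_mul] at hxi
    exact hρ4 (by rw [eq_neg_of_add_eq_zero_left hxi.symm]; ring)
  obtain ⟨-, hh, -⟩ := supp_half S hμ h2 hq (hcol hx i) hij hxi0 hxj
  have hρρ : (ρ + 1) * (ρ⁻¹ + 1) = 2 := by rw [← hxi, ← hxi']; linear_combination 2 * hh
  field_simp at hρρ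
  exact hρ4 (by linear_combination (ρ * ρ - 1) * hρρ)

theorem sl_le {D : Fin 4 → Submodule F (Fin 4 → F)} (hD : Cfsg.Geo.IsMDecomposition 1 D)
    {M : Subgroup (GL (Fin 4) F)} (hq : 7 ≤ Fintype.card F) (hM : PermM D M) {g : GL (Fin 4) F}
    (hg : g ∈ M) (hgs : g ∉ Cfsg.Geo.decompositionStabilizer D) : Cfsg.Geo.specialLinear (Fin 4) F ≤ M := by
  classical
  let e : (Σ _ : Fin 4, Fin 1) ≃ Fin 4 := ⟨fun x => x.1, fun i => ⟨i, 0⟩, fun x => by
    obtain ⟨i, k⟩ := x; simp [Subsingleton.elim k 0], fun i => rfl⟩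
  set B := (blockBasis hD).reindex e with hB
  have hBD : ∀ i, B i ∈ D i := fun i => by
    rw [hB, Module.Basis.reindex_apply]; exact blockBasis_mem hD i 0
  set P := glOf ((Pi.basisFun F (Fin 4)).equiv B (Equiv.refl _))
  have hP : ∀ i, (P : Matrix (Fin 4) (Fin 4) F) *ᵥ LinearMono.E F i = B i := fun i => by
    rw [glOf_mulVec, show LinearMono.E F i = Pi.basisFun F (Fin 4) i from (Pi.basisFun_apply F (Fin 4) i).symm,
      Module.Basis.equiv_apply]
    rfl
  have hspan : ∀ i, ∀ x ∈ D i, ∃ r : F, x = r • B i := fun i x hx => ⟨coord hD x i 0, by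
    conv_lhs => rw [← LinearDecomp.pr_self hD hx]
    show ∑ k, coord hD x i k • blockBasis hD ⟨i, k⟩ = _
    rw [Fin.sum_univ_one, hB, Module.Basis.reindex_apply]
    rfl⟩
  set M' := M.comap (MulAut.conj P).toMonoidHom
  have hdet : ∀ x : GL (Fin 4) F, ((P * x * P⁻¹ : GL (Fin 4) F) : Matrix (Fin 4) (Fin 4) F).det = (x : Matrix (Fin 4) (Fin 4) F).det := by
    intro x
    rw [Units.val_mul, Units.val_mul, Matrix.det_mul, Matrix.det_mul, mul_comm, ← mul_assoc, ← Matrix.det_mul,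
      ← Units.val_mul, inv_mul_cancel, Units.val_one, Matrix.det_one, one_mul]
  have hmaps : ∀ (σ : Equiv.Perm (Fin 4)) (s : Fin 4 → Fˣ), ∀ i, ∀ x ∈ D i,
      ((P * LinearMono.mon σ s * P⁻¹ : GL (Fin 4) F) : Matrix (Fin 4) (Fin 4) F) *ᵥ x ∈ D (σ i) := by
    intro σ s i x hx
    obtain ⟨r, rfl⟩ := hspan i x hx
    rw [← hP, ← mulVec_smul, mulVec_mul_GL, mulVec_mul_GL, inv_mulVec_cancel, mulVec_smul, mulVec_smul]
    refine Submodule.smul_mem _ _ ?_
    rw [show (LinearMono.mon σ s : Matrix (Fin 4) (Fin 4) F) *ᵥ LinearMono.E F i = (s i : F) • LinearMono.E F (σ i) from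
      funext fun k => by
        rw [LinearMono.col_apply, LinearMono.mon_apply]
        by_cases hk : k = σ i <;> simp [hk], mulVec_smul, hP]
    exact Submodule.smul_mem _ _ (hBD _)
  have hN : LinearMono.AboveMono M' := by
    intro x hx hmono
    obtain ⟨σ, s, rfl⟩ := hmono.exists_mon
    exact hM _ (Aschbacher.mem_specialLinear.2 (by
      show ((P * LinearMono.mon σ s * P⁻¹ : GL (Fin 4) F) : Matrix (Fin 4) (Fin 4) F).det = 1
      rw [hdet]; exact Aschbacher.mem_specialLinear.1 hx)) ⟨σ, hmaps σ s⟩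
  have hg' : P⁻¹ * g * P ∈ M' := by
    show P * (P⁻¹ * g * P) * P⁻¹ ∈ M
    convert hg using 1
    group
  have hgm : ¬ LinearMono.Mono (P⁻¹ * g * P) := fun hmono => by
    obtain ⟨σ, s, hs⟩ := hmono.exists_mon
    refine hgs (LinearDecomp.stab_of_maps hD (σ := σ) fun i x hx => ?_)
    have := hmaps σ s i x hx
    rwa [← hs, show P * (P⁻¹ * g * P) * P⁻¹ = g by group] at this
  have hle := mono_le hN hq hg' hgm
  intro x hx
  have : P⁻¹ * x * P ∈ M' := hle (Aschbacher.mem_specialLinear.2 (by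
    have := hdet (P⁻¹ * x * P)
    rw [show P * (P⁻¹ * x * P) * P⁻¹ = x by group] at this
    rw [← this]; exact Aschbacher.mem_specialLinear.1 hx))
  have h2 : P * (P⁻¹ * x * P) * P⁻¹ ∈ M := this
  rwa [show P * (P⁻¹ * x * P) * P⁻¹ = x by group] at h2

/-- maximality -/
theorem maximal (hq : 7 ≤ Fintype.card F) (D : Fin 4 → Submodule F (Fin 4 → F))
    (hD : Cfsg.Geo.IsMDecomposition 1 D) :
    Cfsg.Geo.IsMaximalIn (Cfsg.Geo.specialLinear (Fin 4) F)
      (Cfsg.Geo.decompositionStabilizer D ⊓ Cfsg.Geo.specialLinear (Fin 4) F) := by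
  classical
  refine isMaximalIn_of inf_le_right (fun hle => ?_) fun N hN hNK g hgN hg => ?_
  · let i₀ : Fin 4 := 0
    let j₀ : Fin 4 := 1
    have hij : i₀ ≠ j₀ := by decide
    let k₀ : Fin 1 := ⟨0, hD.pos⟩
    set a := blockBasis hD ⟨i₀, k₀⟩
    set b := blockBasis hD ⟨j₀, k₀⟩
    have ha0 : a ≠ 0 := (blockBasis hD).ne_zero _
    have hb0 : b ≠ 0 := (blockBasis hD).ne_zero _
    obtain ⟨ψ, -, hψb, hψo⟩ := LinearDecomp.exists_row_in hD (v := b) (blockBasis_mem hD j₀ k₀) bot_le (by simpa using hb0)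
    have hψa : ψ ⬝ᵥ a = 0 := hψo i₀ hij a (blockBasis_mem hD i₀ k₀)
    obtain ⟨σ, hσ⟩ := (hle (trv_mem_SL a ψ hψa)).1
    have hmem : (trv a ψ hψa : Matrix (Fin 4) (Fin 4) F) *ᵥ b ∈ D (σ j₀) := by
      rw [← hσ j₀]; exact ⟨b, blockBasis_mem hD j₀ k₀, Matrix.toLin'_apply _ _⟩
    rw [trv_mulVec, hψb, one_smul] at hmem
    have hA := blockBasis_mem hD i₀ k₀
    have hB := blockBasis_mem hD j₀ k₀
    rcases eq_or_ne (σ j₀) i₀ with e | e
    · have := LinearDecomp.pr_other hD (l := j₀) hij.symm (e ▸ hmem)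
      rw [map_add, LinearDecomp.pr_self hD hB, LinearDecomp.pr_other hD hij.symm hA, add_zero] at this
      exact hb0 this
    · have := LinearDecomp.pr_other hD (l := i₀) e.symm hmem
      rw [map_add, LinearDecomp.pr_self hD hA, LinearDecomp.pr_other hD hij hB, zero_add] at this
      exact ha0 this
  · have hgs : g ∉ Cfsg.Geo.decompositionStabilizer D := fun h => hg ⟨h, hNK hgN⟩
    exact sl_le hD hq (fun x hx ⟨σ, hσ⟩ => hN ⟨LinearDecomp.stab_of_maps hD hσ, hx⟩) hgN hgs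

end Cfsg.Agent.Forms.Max.SL4.Lines
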