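import Mathlib
import Cfsg.Agent.Lib.Forms.Max.OrthInLinear

/-!
# Orthogonal similarity groups in SL₄, odd characteristic

Let `a` be the image of a singular vector, non-singular itself. The stabiliser of `a` in the
overgroup induces every transvection on the quotient by `a`. Either it contains a transvection
with centre `a`, and then every vector is a centre, or the lifts are unique and fix the
perpendicular space of `a`, which the conjugate of an Eichler element does not.
-/

set_option autoImplicit false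
set_option linter.unusedSectionVars false

namespace Cfsg.Agent.Forms.Max.SL4.Orth

open Matrix Cfsg.Agent.Aschbacher
open Cfsg.Agent.Forms.Max.OrthInLinear (add_l add_r sub_l sub_r smul_l smul_r zero_l zero_r self2
  form mem_perp_span exists_repr le_finrank_perp)

variable {F : Type*} [Field F] [Fintype F] {ι : Type} [Fintype ι] [DecidableEq ι]
variable {Q : QuadraticForm F (ι → F)}

local notation "Vec" => (ι → F)
local notation "B" => QuadraticMap.polar Q

theorem comm (x y : Vec) : B x y = B y x := QuadraticMap.polar_comm _ x y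

theorem sum_l {α : Type*} [Fintype α] (c : α → F) (v : α → Vec) (y : Vec) :
    B (∑ i, c i • v i) y = ∑ i, c i * B (v i) y := by
  rw [comm]
  show Reflections.polB Q y (∑ i, c i • v i) = _
  simp [Reflections.polB_apply, comm y]

/-- the part of `x` orthogonal to an orthogonal family -/
theorem proj_orth (h2 : (2 : F) ≠ 0) {k : ℕ} {s : Fin k → Vec}
    (ho : ∀ i j, i ≠ j → B (s i) (s j) = 0) (hn : ∀ i, Q (s i) ≠ 0) (x : Vec) (j : Fin k) :
    B (x - ∑ i, (B x (s i) / B (s i) (s i)) • s i) (s j) = 0 := by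
  rw [sub_l, sum_l, Finset.sum_eq_single j (fun i _ hij => by rw [ho i j hij, mul_zero])
    (fun h => absurd (Finset.mem_univ j) h), div_mul_cancel₀, sub_self]
  rw [self2]; exact mul_ne_zero h2 (hn j)

variable (hQ : (QuadraticMap.polarBilin Q).Nondegenerate)
include hQ

/-- an orthogonal family that is not a basis extends -/
theorem exists_aniso_perp (h2 : (2 : F) ≠ 0) {k : ℕ} (s : Fin k → Vec) (hk : k < Fintype.card ι)
    (ho : ∀ i j, i ≠ j → B (s i) (s j) = 0) (hn : ∀ i, Q (s i) ≠ 0) :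
    ∃ z, Q z ≠ 0 ∧ ∀ i, B z (s i) = 0 := by
  by_contra hc
  push Not at hc
  have hsing : ∀ z ∈ Orth.perp Q (Submodule.span F (Set.range s)), Q z = 0 := fun z hz => by
    by_contra hz'
    obtain ⟨i, hi⟩ := hc z hz'
    exact hi (mem_perp_span.1 hz i)
  obtain ⟨z, hz, hz0⟩ : ∃ z ∈ Orth.perp Q (Submodule.span F (Set.range s)), z ≠ 0 := by
    refine (Submodule.ne_bot_iff _).1 fun e => ?_
    have := le_finrank_perp hQ s
    rw [e, finrank_bot] at this
    omega
  refine hz0 (hQ.1 z fun x => ?_)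
  show B z x = 0
  have h1 := Orth.polar_of_sing hsing hz (mem_perp_span.2 fun j => proj_orth h2 ho hn x j)
  rw [sub_r, comm z (∑ i, _), sum_l, Finset.sum_eq_zero fun i _ => by
    rw [comm (s i) z, mem_perp_span.1 hz i, mul_zero], sub_zero] at h1
  exact h1

/-- coordinates in an orthogonal basis -/
theorem expand (h2 : (2 : F) ≠ 0) {k : ℕ} (s : Fin k → Vec) (hk : k = Fintype.card ι)
    (ho : ∀ i j, i ≠ j → B (s i) (s j) = 0) (hn : ∀ i, Q (s i) ≠ 0) (x : Vec) :
    x = ∑ i, (B x (s i) / B (s i) (s i)) • s i := by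
  have hp := proj_orth h2 ho hn x
  have hli : LinearIndependent F s := Fintype.linearIndependent_iff.2 fun c hc j => by
    have h1 : B (∑ i, c i • s i) (s j) = 0 := by rw [hc, zero_l]
    rw [sum_l, Finset.sum_eq_single j (fun i _ hij => by rw [ho i j hij, mul_zero])
      (fun h => absurd (Finset.mem_univ j) h), self2] at h1
    exact (mul_eq_zero.1 h1).resolve_right (mul_ne_zero h2 (hn j))
  have htop : Submodule.span F (Set.range s) = ⊤ :=
    Submodule.eq_top_of_finrank_eq (by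
      rw [finrank_span_eq_card hli, Fintype.card_fin, Module.finrank_fintype_fun_eq_card, hk])
  refine sub_eq_zero.1 (hQ.1 _ fun y => ?_)
  show B _ y = 0
  rw [comm]
  exact Orth.mem_perp.1 (mem_perp_span.2 hp) y (htop ▸ Submodule.mem_top)

omit hQ in
theorem orth_four {a p q r : Vec} (hap : B a p = 0) (haq : B a q = 0) (har : B a r = 0)
    (hpq : B p q = 0) (hpr : B p r = 0) (hqr : B q r = 0) :
    ∀ i j, i ≠ j → B (![a, p, q, r] i) (![a, p, q, r] j) = 0 := by
  intro i j hij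
  fin_cases i <;> fin_cases j <;> first
    | exact absurd rfl hij
    | assumption
    | (refine (comm _ _).trans ?_; assumption)

omit hQ in
theorem aniso_four {a p q r : Vec} (ha : Q a ≠ 0) (hp : Q p ≠ 0) (hq : Q q ≠ 0) (hr : Q r ≠ 0) :
    ∀ i, Q (![a, p, q, r] i) ≠ 0 := by
  intro i
  fin_cases i <;> assumption

theorem expand_four (h2 : (2 : F) ≠ 0) (hι : Fintype.card ι = 4) {a p q r : Vec}
    (hap : B a p = 0) (haq : B a q = 0) (har : B a r = 0)
    (hpq : B p q = 0) (hpr : B p r = 0) (hqr : B q r = 0)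
    (ha : Q a ≠ 0) (hp : Q p ≠ 0) (hq : Q q ≠ 0) (hr : Q r ≠ 0) (x : Vec) :
    x = (B x a / B a a) • a + (B x p / B p p) • p + (B x q / B q q) • q + (B x r / B r r) • r := by
  have h := expand hQ h2 ![a, p, q, r] hι.symm (orth_four hap haq har hpq hpr hqr)
    (aniso_four ha hp hq hr) x
  rw [Fin.sum_univ_four] at h
  exact h

/-- a linear map preserving the singular vectors is a similarity -/
theorem similarity_of_sing (h2 : (2 : F) ≠ 0) (hι : Fintype.card ι = 4) (g : GL ι F)
    (hg : ∀ v, Q v = 0 → Q ((g : Matrix ι ι F) *ᵥ v) = 0) :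
    ∃ c : Fˣ, ∀ v, Q ((g : Matrix ι ι F) *ᵥ v) = (c : F) * Q v := by
  set Q' : QuadraticForm F Vec := Q.comp (Matrix.toLin' (g : Matrix ι ι F)) with hQ'
  have hQ'x : ∀ v, Q' v = Q ((g : Matrix ι ι F) *ᵥ v) := fun v => by simp [hQ']
  simp only [← hQ'x] at hg ⊢
  obtain ⟨e, -, he0, hQe⟩ := Orth.exists_sing hQ (S := ⊤)
    (by rw [finrank_top, Module.finrank_fintype_fun_eq_card]; omega)
  obtain ⟨y₀, hy₀⟩ := Orth.exists_ne hQ he0
  obtain ⟨f, -, hQf, hef⟩ := Orth.exists_partner_in (S := ⊤) (e := e) (y := y₀) trivial trivial hQe hy₀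
  obtain ⟨r, hr⟩ : ∃ r, r = QuadraticMap.polar Q' e f := ⟨_, rfl⟩
  have hee : B e e = 0 := by rw [self2, hQe, mul_zero]
  have hff : B f f = 0 := by rw [self2, hQf, mul_zero]
  have hfe : B f e = 1 := by rw [comm, hef]
  -- on the perpendicular space of the pair
  have key : ∀ x, B x e = 0 → B x f = 0 → Q' x = r * Q x ∧
      QuadraticMap.polar Q' x e = Q x * QuadraticMap.polar Q' x f ∧
      QuadraticMap.polar Q' x f = Q x * QuadraticMap.polar Q' x e := by
    intro x hxe hxf
    have one : ∀ e' f' x', Q e' = 0 → Q f' = 0 → B e' f' = 1 → B x' e' = 0 → B x' f' = 0 →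
        Q' x' + QuadraticMap.polar Q' x' e' - Q x' * QuadraticMap.polar Q' x' f' -
          Q x' * QuadraticMap.polar Q' e' f' = 0 := by
      intro e' f' x' h1 h2' h3 h4 h5
      have h6 : Q (x' + e' + (-Q x') • f') = 0 := by
        rw [Classical.Orth.map_add', Classical.Orth.map_add', Classical.Orth.map_smul', add_l,
          smul_r, smul_r, h1, h2', h3, h4, h5]
        ring
      have h7 := hg _ h6
      rw [Classical.Orth.map_add', Classical.Orth.map_add', Classical.Orth.map_smul',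
        QuadraticMap.polar_add_left, QuadraticMap.polar_smul_right, QuadraticMap.polar_smul_right,
        hg _ h1, hg _ h2', smul_eq_mul, smul_eq_mul] at h7
      linear_combination h7
    have hn : Q (-x) = Q x := QuadraticMap.map_neg Q x
    have hne : B (-x) e = 0 := by rw [QuadraticMap.polar_neg_left, hxe, neg_zero]
    have hnf : B (-x) f = 0 := by rw [QuadraticMap.polar_neg_left, hxf, neg_zero]
    have a1 := one e f x hQe hQf hef hxe hxf
    have a2 := one e f (-x) hQe hQf hef hne hnf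
    have a3 := one f e x hQf hQe hfe hxf hxe
    have a4 := one f e (-x) hQf hQe hfe hnf hne
    rw [QuadraticMap.polar_neg_left, QuadraticMap.polar_neg_left, QuadraticMap.map_neg,
      hn, ← hr] at a2
    rw [QuadraticMap.polar_neg_left, QuadraticMap.polar_neg_left, QuadraticMap.map_neg,
      hn, QuadraticMap.polar_comm _ f e, ← hr] at a4
    rw [← hr] at a1
    rw [QuadraticMap.polar_comm _ f e, ← hr] at a3
    refine ⟨mul_left_cancel₀ h2 ?_, mul_left_cancel₀ h2 ?_, mul_left_cancel₀ h2 ?_⟩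
    · linear_combination a1 + a2
    · linear_combination a1 - a2
    · linear_combination a3 - a4
  -- the cross terms vanish
  have hzero : ∀ x, B x e = 0 → B x f = 0 →
      QuadraticMap.polar Q' x e = 0 ∧ QuadraticMap.polar Q' x f = 0 := by
    intro x hxe hxf
    obtain ⟨-, k1, k2⟩ := key x hxe hxf
    by_cases hQx : Q x = 0
    · exact ⟨by rw [k1, hQx, zero_mul], by rw [k2, hQx, zero_mul]⟩
    have hp : Q (e + f) = 1 := by rw [Classical.Orth.map_add', hQe, hQf, hef, zero_add, zero_add]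
    have hm : Q (e - f) = -1 := by
      rw [sub_eq_add_neg, Classical.Orth.map_add', QuadraticMap.map_neg,
        QuadraticMap.polar_neg_right, hQe, hQf, hef, zero_add, zero_add]
    obtain ⟨y, hQy, hy⟩ := exists_aniso_perp hQ h2 ![e + f, e - f, x] (by omega) (fun i j hij => by
        fin_cases i <;> fin_cases j <;> first
          | exact absurd rfl hij
          | simp [hee, hff, hef, hfe, hxe, hxf, comm e x, comm f x])
      (fun i => by
        fin_cases i
        · simp [hp]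
        · simp [hm]
        · exact hQx)
    have y1 : B y e + B y f = 0 := by rw [← add_r]; exact hy 0
    have y2 : B y e - B y f = 0 := by rw [← sub_r]; exact hy 1
    have y3 : B y x = 0 := hy 2
    have hye : B y e = 0 := mul_left_cancel₀ h2 (by linear_combination y1 + y2)
    have hyf : B y f = 0 := by linear_combination y1 - hye
    obtain ⟨-, l1, -⟩ := key y hye hyf
    have hz : ∀ t : F, t * t = 1 →
        Q y * QuadraticMap.polar Q' x f + t * Q x * QuadraticMap.polar Q' y f = 0 := by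
      intro t ht
      obtain ⟨-, m1, -⟩ := key (x + t • y) (by rw [add_l, smul_l, hxe, hye, mul_zero, add_zero])
        (by rw [add_l, smul_l, hxf, hyf, mul_zero, add_zero])
      rw [QuadraticMap.polar_add_left, QuadraticMap.polar_smul_left, QuadraticMap.polar_add_left,
        QuadraticMap.polar_smul_left, Classical.Orth.map_add', Classical.Orth.map_smul', smul_r,
        comm x y, y3, smul_eq_mul, smul_eq_mul] at m1
      linear_combination -m1 + k1 + t * l1 +
        (-Q y * QuadraticMap.polar Q' x f - t * Q y * QuadraticMap.polar Q' y f) * ht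
    have hxf0 : QuadraticMap.polar Q' x f = 0 := by
      refine mul_left_cancel₀ hQy (mul_left_cancel₀ h2 ?_)
      linear_combination hz 1 (one_mul 1) + hz (-1) (by ring)
    exact ⟨by rw [k1, hxf0, mul_zero], hxf0⟩
  have hall : ∀ v, Q' v = r * Q v := by
    intro v
    obtain ⟨v₀, hv₀⟩ : ∃ v₀, v₀ = v - B v f • e - B v e • f := ⟨_, rfl⟩
    have h0e : B v₀ e = 0 := by rw [hv₀, sub_l, sub_l, smul_l, smul_l, hee, hfe]; ring
    have h0f : B v₀ f = 0 := by rw [hv₀, sub_l, sub_l, smul_l, smul_l, hff, hef]; ring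
    obtain ⟨k0, -, -⟩ := key v₀ h0e h0f
    obtain ⟨z1, z2⟩ := hzero v₀ h0e h0f
    have hv : v = v₀ + B v f • e + B v e • f := by rw [hv₀]; abel
    rw [hv]
    generalize B v f = α, B v e = β
    simp only [Classical.Orth.map_add', Classical.Orth.map_smul', QuadraticMap.polar_add_left,
      QuadraticMap.polar_smul_left, QuadraticMap.polar_smul_right, smul_eq_mul, z1, z2, h0e, h0f,
      hg _ hQe, hg _ hQf, hQe, hQf, k0, ← hr, hef]
    ring
  have hr0 : r ≠ 0 := by
    rintro rfl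
    have h1 := hall (((g⁻¹ : GL ι F) : Matrix ι ι F) *ᵥ (e + f))
    rw [zero_mul, hQ'x, mulVec_inv_cancel, Classical.Orth.map_add', hQe, hQf, hef, zero_add,
      zero_add] at h1
    exact one_ne_zero h1
  exact ⟨Units.mk0 r hr0, fun v => by rw [hall, Units.val_mk0]⟩

omit hQ

variable (Q) in
/-- the Eichler elements lie in `M` -/
def EichIn (M : Subgroup (GL ι F)) : Prop :=
  ∀ u w : Vec, Q u = 0 → B u w = 0 → ∃ k ∈ M,
    (∀ x, (k : Matrix ι ι F) *ᵥ x = x + B x u • w - (B x w + Q w * B x u) • u) ∧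
    ∀ x y, B ((k : Matrix ι ι F) *ᵥ x) ((k : Matrix ι ι F) *ᵥ y) = B x y

/-- the transvection `(φ, c)` of the quotient by `a` lifts to the stabiliser of `a` in `M` -/
def Lift (M : Subgroup (GL ι F)) (a : Vec) (φ : Vec →ₗ[F] F) (c : Vec) : Prop :=
  ∃ k ∈ M, (k : Matrix ι ι F) *ᵥ a = a ∧
    ∀ x, ∃ t : F, (k : Matrix ι ι F) *ᵥ x = x + φ x • c + t • a

/-- every transvection of the quotient by `a` with functional `φ` lifts -/
def Full (M : Subgroup (GL ι F)) (a : Vec) (φ : Vec →ₗ[F] F) : Prop :=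
  φ a = 0 ∧ ∀ c, φ c = 0 → Lift M a φ c

theorem inv_fix {k : GL ι F} {a : Vec} (ka : (k : Matrix ι ι F) *ᵥ a = a) :
    ((k⁻¹ : GL ι F) : Matrix ι ι F) *ᵥ a = a := by
  conv_lhs => rw [← ka]
  exact inv_mulVec_cancel k a

/-- the dependent case -/
theorem exists_eq_smul {φ ψ : Vec →ₗ[F] F} (h : ∀ c, ψ c = 0 → φ c = 0) :
    ∃ t : F, φ = t • ψ := by
  by_cases hψ : ψ = 0
  · exact ⟨0, LinearMap.ext fun x => by rw [h x (by rw [hψ]; rfl)]; simp⟩
  obtain ⟨x₀, hx₀⟩ : ∃ x₀, ψ x₀ ≠ 0 := by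
    by_contra hc
    push Not at hc
    exact hψ (LinearMap.ext hc)
  refine ⟨φ x₀ / ψ x₀, LinearMap.ext fun x => ?_⟩
  have := h (x - (ψ x / ψ x₀) • x₀) (by
    rw [map_sub, map_smul, smul_eq_mul, div_mul_cancel₀ _ hx₀, sub_self])
  rw [map_sub, map_smul, smul_eq_mul, sub_eq_zero] at this
  rw [LinearMap.smul_apply, smul_eq_mul, this]
  ring

theorem Full.zero (M : Subgroup (GL ι F)) (a : Vec) : Full M a (0 : Vec →ₗ[F] F) :=
  ⟨rfl, fun c _ => ⟨1, one_mem M, by rw [Units.val_one, one_mulVec],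
    fun x => ⟨0, by rw [Units.val_one, one_mulVec]; simp⟩⟩⟩

theorem Full.smul {M : Subgroup (GL ι F)} {a : Vec} {φ : Vec →ₗ[F] F} (h : Full M a φ) (s : F) :
    Full M a (s • φ) := by
  refine ⟨by rw [LinearMap.smul_apply, h.1, smul_zero], fun c hc => ?_⟩
  obtain ⟨k, hk, ka, kx⟩ := h.2 (s • c) (by rw [map_smul]; simpa using hc)
  refine ⟨k, hk, ka, fun x => ?_⟩
  obtain ⟨t, ht⟩ := kx x
  exact ⟨t, by rw [ht, LinearMap.smul_apply, smul_eq_mul, smul_smul, mul_comm]⟩

theorem Full.conj {M : Subgroup (GL ι F)} {a : Vec} {φ φ' : Vec →ₗ[F] F} (h : Full M a φ)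
    {m : GL ι F} (hm : m ∈ M) (ma : (m : Matrix ι ι F) *ᵥ a = a)
    (hφ : ∀ x, φ' ((m : Matrix ι ι F) *ᵥ x) = φ x) : Full M a φ' := by
  refine ⟨by rw [← ma, hφ, h.1], fun c hc => ?_⟩
  obtain ⟨k, hk, ka, kx⟩ := h.2 (((m⁻¹ : GL ι F) : Matrix ι ι F) *ᵥ c)
    (by rw [← hφ, mulVec_inv_cancel, hc])
  refine ⟨m * k * m⁻¹, mul_mem (mul_mem hm hk) (inv_mem hm),
    by rw [mulVec_mul_GL, mulVec_mul_GL, inv_fix ma, ka, ma], fun x => ?_⟩
  obtain ⟨t, ht⟩ := kx (((m⁻¹ : GL ι F) : Matrix ι ι F) *ᵥ x)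
  refine ⟨t, ?_⟩
  rw [mulVec_mul_GL, mulVec_mul_GL, ht, mulVec_add, mulVec_add, mulVec_smul, mulVec_smul,
    mulVec_inv_cancel, mulVec_inv_cancel, ma, ← hφ, mulVec_inv_cancel]

theorem Full.add {M : Subgroup (GL ι F)} {a : Vec} {φ₁ φ₂ : Vec →ₗ[F] F} (h₁ : Full M a φ₁)
    (h₂ : Full M a φ₂) : Full M a (φ₁ + φ₂) := by
  by_cases hc : ∀ c, φ₂ c = 0 → φ₁ c = 0
  · obtain ⟨t, rfl⟩ := exists_eq_smul hc
    rw [show t • φ₂ + φ₂ = (t + 1) • φ₂ by rw [add_smul, one_smul]]
    exact h₂.smul _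
  push Not at hc
  obtain ⟨c, hc2, hc1⟩ := hc
  obtain ⟨m, hm, ma, mx⟩ := h₂.2 ((-(φ₁ c)⁻¹) • c) (by rw [map_smul, hc2, smul_zero])
  refine h₁.conj hm ma fun x => ?_
  obtain ⟨t, ht⟩ := mx x
  simp only [ht, LinearMap.add_apply, map_add, map_smul, h₁.1, h₂.1, hc2, smul_eq_mul]
  field_simp
  ring

include hQ

/-- every transvection of the quotient lifts -/
theorem all_full (h2 : (2 : F) ≠ 0) (hι : Fintype.card ι = 4) {M : Subgroup (GL ι F)}
    (hE : EichIn Q M) {a : Vec} (ha : Q a ≠ 0) {φ₀ : Vec →ₗ[F] F} (h₀ : Full M a φ₀)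
    (hne : φ₀ ≠ 0) {φ : Vec →ₗ[F] F} (hφ : φ a = 0) : Full M a φ := by
  let D : Submodule F Vec :=
    { carrier := {d | Full M a (form Q d)}
      add_mem' := fun {p q} hp hq => by
        show Full M a (form Q (p + q))
        rw [show form Q (p + q) = form Q p + form Q q from LinearMap.ext fun x => add_r x p q]
        exact hp.add hq
      zero_mem' := by
        show Full M a (form Q 0)
        rw [show form Q 0 = 0 from LinearMap.ext fun x => zero_r x]
        exact Full.zero M a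
      smul_mem' := fun s d hd => by
        show Full M a (form Q (s • d))
        rw [show form Q (s • d) = s • form Q d from LinearMap.ext fun x => smul_r s x d]
        exact hd.smul s }
  obtain ⟨d, hd⟩ := exists_repr hQ φ₀
  have hdD : d ∈ D := by
    show Full M a (form Q d)
    rw [show form Q d = φ₀ from LinearMap.ext hd]
    exact h₀
  have hda : B d a = 0 := by rw [comm]; exact (show Full M a (form Q d) from hdD).1
  have hd0 : d ≠ 0 := fun e => hne (LinearMap.ext fun x => by rw [← hd x, e, zero_r]; rfl)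
  have hmove : ∀ v ∈ D, ∀ e z, Q e = 0 → B e z = 0 → B e a = 0 → B z a = 0 →
      B v e • z - (B v z + Q z * B v e) • e ∈ D := by
    intro v hv e z hQe hez hea hza
    obtain ⟨k, hk, kx, kB⟩ := hE e z hQe hez
    have ka : (k : Matrix ι ι F) *ᵥ a = a := by
      rw [kx, comm a e, hea, comm a z, hza, mul_zero, add_zero, zero_smul, zero_smul, add_zero,
        sub_zero]
    have h1 : Full M a (form Q ((k : Matrix ι ι F) *ᵥ v)) :=
      (show Full M a (form Q v) from hv).conj hk ka fun x => kB x v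
    have h2' : (k : Matrix ι ι F) *ᵥ v - v ∈ D := D.sub_mem h1 hv
    rw [kx] at h2'
    convert h2' using 1
    abel
  -- a singular vector in the perpendicular space of `a` not orthogonal to `d`
  set S := Orth.perp Q (Submodule.span F (Set.range ![a])) with hS
  have memS : ∀ {v : Vec}, v ∈ S ↔ B v a = 0 := fun {v} =>
    ⟨fun h => mem_perp_span.1 h 0, fun h => mem_perp_span.2 fun i => by fin_cases i; exact h⟩
  have hnspan : ∀ v : Vec, v ≠ 0 → B v a = 0 → v ∉ Submodule.span F (Set.range ![a]) := by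
    intro v hv0 hva h
    rw [Matrix.range_cons, Matrix.range_empty, Set.union_empty, Submodule.mem_span_singleton] at h
    obtain ⟨t, rfl⟩ := h
    rw [smul_l, self2, mul_eq_zero] at hva
    rcases hva with rfl | h
    · exact hv0 (zero_smul _ _)
    · exact mul_ne_zero h2 ha h
  obtain ⟨e, heS, hQe, hde⟩ : ∃ e ∈ S, Q e = 0 ∧ B d e ≠ 0 := by
    obtain ⟨e₁, he₁, he₁0, hQe₁⟩ := Orth.exists_sing hQ (S := S) (by
      have := le_finrank_perp hQ ![a]
      rw [← hS] at this
      omega)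
    obtain ⟨y, hy, hey⟩ := Orth.not_mem_perp hQ (hnspan e₁ he₁0 (memS.1 he₁))
    obtain ⟨f₁, hf₁, hQf₁, hef₁⟩ := Orth.exists_partner_in he₁ hy hQe₁ hey
    obtain ⟨y', hy', hdy⟩ := Orth.not_mem_perp hQ (hnspan d hd0 hda)
    by_contra hc
    push Not at hc
    exact hdy (Orth.mem_ker'.1 (Orth.sing_span (T := Orth.ker Q d) ⟨hQe₁, hQf₁, hef₁⟩ he₁ hf₁
      (fun v hv hv0 => Orth.mem_ker'.2 (hc v hv hv0)) hy'))
  obtain ⟨f, hfS, hQf, hef⟩ := Orth.exists_partner_in heS (memS.2 hda) hQe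
    (by rw [comm]; exact hde)
  have hea : B e a = 0 := memS.1 heS
  have hfa : B f a = 0 := memS.1 hfS
  have hee : B e e = 0 := by rw [self2, hQe, mul_zero]
  have hff : B f f = 0 := by rw [self2, hQf, mul_zero]
  have hfe : B f e = 1 := by rw [comm, hef]
  have hQp : Q (e + f) = 1 := by rw [Classical.Orth.map_add', hQe, hQf, hef, zero_add, zero_add]
  have hQm : Q (e - f) = -1 := by
    rw [sub_eq_add_neg, Classical.Orth.map_add', QuadraticMap.map_neg,
      QuadraticMap.polar_neg_right, hQe, hQf, hef, zero_add, zero_add]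
  obtain ⟨z, hQz, hz⟩ := exists_aniso_perp hQ h2 ![a, e + f, e - f] (by omega) (fun i j hij => by
      fin_cases i <;> fin_cases j <;> first
        | exact absurd rfl hij
        | simp [hee, hff, hef, hfe, hea, hfa, comm a e, comm a f])
    (fun i => by
      fin_cases i
      · exact ha
      · simp [hQp]
      · simp [hQm])
  have hza : B z a = 0 := hz 0
  have z1 : B z e + B z f = 0 := by rw [← add_r]; exact hz 1
  have z2 : B z e - B z f = 0 := by rw [← sub_r]; exact hz 2
  have hze : B z e = 0 := mul_left_cancel₀ h2 (by linear_combination z1 + z2)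
  have hzf : B z f = 0 := by linear_combination z1 - hze
  have m1 := hmove d hdD e z hQe (by rw [comm, hze]) hea hza
  have m2 := hmove d hdD e ((-1 : F) • z) hQe (by rw [smul_r, comm, hze, mul_zero]) hea
    (by rw [smul_l, hza, mul_zero])
  rw [smul_r, Classical.Orth.map_smul'] at m2
  have heD : e ∈ D := by
    have := D.smul_mem (-(2 * (Q z * B d e)))⁻¹ (D.add_mem m1 m2)
    have hne' : (2 * (Q z * B d e)) ≠ 0 := mul_ne_zero h2 (mul_ne_zero hQz hde)
    convert this using 1
    match_scalars <;> field_simp <;> ring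
  have hzD : z ∈ D := by
    have := D.smul_mem (B d e)⁻¹ (D.add_mem m1 (D.smul_mem (B d z + Q z * B d e) heD))
    rwa [sub_add_cancel, inv_smul_smul₀ hde] at this
  have hfD : f ∈ D := by
    have h := hmove e heD f z hQf (by rw [comm, hzf]) hfa hza
    rw [hef, comm e z, hze, zero_add, mul_one, one_smul] at h
    have := D.smul_mem (Q z)⁻¹ (D.sub_mem hzD h)
    rwa [sub_sub_cancel, inv_smul_smul₀ hQz] at this
  obtain ⟨v, hv⟩ := exists_repr hQ φ
  have hva : B v a = 0 := by rw [comm, hv, hφ]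
  have hex := expand_four hQ h2 hι (a := a) (p := e + f) (q := e - f) (r := z)
    (by rw [comm, add_l, hea, hfa, add_zero]) (by rw [comm, sub_l, hea, hfa, sub_zero])
    (by rw [comm, hza]) (by rw [add_l, sub_r, sub_r, hee, hef, hfe, hff]; ring)
    (by rw [comm, add_r, hze, hzf, add_zero]) (by rw [comm, sub_r, hze, hzf, sub_zero])
    ha (by rw [hQp]; exact one_ne_zero) (by rw [hQm]; exact neg_ne_zero.2 one_ne_zero) hQz v
  rw [hva, zero_div, zero_smul, zero_add] at hex
  have hvD : v ∈ D := hex ▸ D.add_mem (D.add_mem (D.smul_mem _ (D.add_mem heD hfD))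
    (D.smul_mem _ (D.sub_mem heD hfD))) (D.smul_mem _ hzD)
  have := (show Full M a (form Q v) from hvD)
  rwa [show form Q v = φ from LinearMap.ext hv] at this

/-- a transvection with centre `a` generates everything -/
theorem le_of_kernel (h2 : (2 : F) ≠ 0) (hι : Fintype.card ι = 4) {M : Subgroup (GL ι F)}
    (hE : EichIn Q M) {a : Vec} (ha : Q a ≠ 0) (hfull : ∀ φ, φ a = 0 → Full M a φ)
    {ψ : Vec →ₗ[F] F} (hψa : ψ a = 0) (hψ : ψ ≠ 0) {k : GL ι F} (hk : k ∈ M)
    (kx : ∀ x, (k : Matrix ι ι F) *ᵥ x = x + ψ x • a) :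
    Cfsg.Geo.specialLinear ι F ≤ M := by
  have haa : B a a ≠ 0 := by rw [self2]; exact mul_ne_zero h2 ha
  have ha0 : a ≠ 0 := fun e => ha (by rw [e, QuadraticMap.map_zero])
  let T : AddSubgroup (Vec →ₗ[F] F) :=
    { carrier := {χ | χ a = 0 ∧ ∃ m ∈ M, ∀ x, (m : Matrix ι ι F) *ᵥ x = x + χ x • a}
      add_mem' := fun {p q} hp hq => by
        obtain ⟨hpa, m, hm, mx⟩ := hp
        obtain ⟨hqa, n, hn, nx⟩ := hq
        refine ⟨by rw [LinearMap.add_apply, hpa, hqa, add_zero], m * n, mul_mem hm hn, fun x => ?_⟩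
        rw [mulVec_mul_GL, nx, mulVec_add, mulVec_smul, mx, mx a, hpa, LinearMap.add_apply]
        module
      zero_mem' := ⟨rfl, 1, one_mem M, fun x => by rw [Units.val_one, one_mulVec]; simp⟩
      neg_mem' := fun {p} hp => by
        obtain ⟨hpa, m, hm, mx⟩ := hp
        refine ⟨by rw [LinearMap.neg_apply, hpa, neg_zero], m⁻¹, inv_mem hm, fun x => ?_⟩
        conv_lhs => rw [show x = (m : Matrix ι ι F) *ᵥ (x + (-p) x • a) by
          rw [mx, map_add, map_smul, hpa, LinearMap.neg_apply, smul_zero, add_zero, neg_smul]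
          abel]
        rw [inv_mulVec_cancel] }
  have hψT : ψ ∈ T := ⟨hψa, k, hk, kx⟩
  have hind : ∀ φ : Vec →ₗ[F] F, φ a = 0 → (∀ t : F, φ ≠ t • ψ) → φ ∈ T := by
    intro φ hφ hni
    obtain ⟨c, hc, hψc⟩ : ∃ c, φ c = 0 ∧ ψ c ≠ 0 := by
      by_contra hc'
      push Not at hc'
      obtain ⟨t, ht⟩ := exists_eq_smul hc'
      have ht0 : t ≠ 0 := fun e => hψ (by rw [ht, e, zero_smul])
      exact hni t⁻¹ (by rw [ht, inv_smul_smul₀ ht0])
    obtain ⟨m, hm, ma, mx⟩ := (hfull φ hφ).2 ((ψ c)⁻¹ • c) (by rw [map_smul, hc, smul_zero])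
    have hd : ψ - φ ∈ T := by
      refine ⟨by rw [LinearMap.sub_apply, hψa, hφ, sub_zero], m * k * m⁻¹,
        mul_mem (mul_mem hm hk) (inv_mem hm), fun x => ?_⟩
      obtain ⟨y, hy⟩ : ∃ y, y = ((m⁻¹ : GL ι F) : Matrix ι ι F) *ᵥ x := ⟨_, rfl⟩
      have hxy : (m : Matrix ι ι F) *ᵥ y = x := by rw [hy, mulVec_inv_cancel]
      obtain ⟨t, ht⟩ := mx y
      rw [mulVec_mul_GL, mulVec_mul_GL, ← hy, kx, mulVec_add, mulVec_smul, ma, hxy]
      congr 2
      rw [← hxy, ht]
      simp only [LinearMap.sub_apply, map_add, map_smul, hφ, hψa, hc, smul_eq_mul]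
      field_simp
      ring
    have := T.sub_mem hψT hd
    rwa [sub_sub_cancel] at this
  have hallT : ∀ φ : Vec →ₗ[F] F, φ a = 0 → φ ∈ T := by
    intro φ hφ
    by_cases hni : ∀ t : F, φ ≠ t • ψ
    · exact hind φ hφ hni
    push Not at hni
    obtain ⟨t, rfl⟩ := hni
    obtain ⟨p, hp⟩ := exists_repr hQ ψ
    obtain ⟨v, hvS, hv⟩ : ∃ v ∈ Orth.perp Q (Submodule.span F (Set.range ![a])),
        v ∉ Submodule.span F (Set.range ![p]) := SetLike.not_le_iff_exists.1 fun hle => by
      have h1 := Submodule.finrank_mono hle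
      have h2' := le_finrank_perp hQ ![a]
      have h3 : Module.finrank F (Submodule.span F (Set.range ![p])) ≤ 1 :=
        (finrank_range_le_card ![p]).trans_eq (Fintype.card_fin 1)
      omega
    have hχa : form Q v a = 0 := (comm a v).trans (mem_perp_span.1 hvS 0)
    have hχ : ∀ s : F, form Q v ≠ s • ψ := by
      intro s e
      refine hv ?_
      rw [show v = s • p from OrthInLinear.right_ext hQ fun x => by
        rw [smul_r, hp]; exact LinearMap.congr_fun e x]
      exact Submodule.smul_mem _ _ (Submodule.subset_span ⟨0, rfl⟩)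
    have h1 := hind (t • ψ + form Q v) (by rw [LinearMap.add_apply, LinearMap.smul_apply, hψa,
      hχa, smul_zero, add_zero]) fun s e => hχ (s - t) (LinearMap.ext fun x => by
        have h := LinearMap.congr_fun e x
        simp only [LinearMap.add_apply, LinearMap.smul_apply, smul_eq_mul] at h ⊢
        linear_combination h)
    have := T.sub_mem h1 (hind _ hχa hχ)
    rwa [add_sub_cancel_right] at this
  have hcen : a ∈ centres M := fun φ hφ => by
    obtain ⟨χ, hχ⟩ : ∃ χ : Vec →ₗ[F] F, ∀ x, χ x = φ ⬝ᵥ x :=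
      ⟨{ toFun := fun x => φ ⬝ᵥ x
         map_add' := fun a b => dotProduct_add φ a b
         map_smul' := fun t a => dotProduct_smul t φ a }, fun _ => rfl⟩
    obtain ⟨-, m, hm, mx⟩ := hallT χ (by rw [hχ, hφ])
    rwa [show trv a φ hφ = m from gl_ext fun x => by rw [mx, trv_mulVec, hχ]]
  -- every vector
  have hcadd : ∀ a b, a ∈ centres M → b ∈ centres M → a + b ∈ centres M := fun a b ha hb => by
    by_cases hm : a ∈ Submodule.span F {b}
    · obtain ⟨t, rfl⟩ := Submodule.mem_span_singleton.1 hm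
      have := centres_smul (t + 1) hb
      rwa [add_smul, one_smul] at this
    · obtain ⟨φ, hφb, hφa⟩ := exists_row_of_not_mem hm
      have := centres_map (hb φ (hφb b (Submodule.mem_span_singleton_self _))) ha
      rwa [trv_mulVec, hφa, one_smul] at this
  let C : Submodule F Vec :=
    { carrier := centres M
      add_mem' := fun ha hb => hcadd _ _ ha hb
      zero_mem' := by simpa using centres_smul 0 hcen
      smul_mem' := fun c _ h => centres_smul c h }
  obtain ⟨e, hQe, hae⟩ : ∃ e, Q e = 0 ∧ B a e ≠ 0 := by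
    obtain ⟨e₁, -, he₁0, hQe₁⟩ := Orth.exists_sing hQ (S := ⊤)
      (by rw [finrank_top, Module.finrank_fintype_fun_eq_card]; omega)
    obtain ⟨y, hy⟩ := Orth.exists_ne hQ he₁0
    obtain ⟨f₁, -, hQf₁, hef₁⟩ := Orth.exists_partner_in (S := ⊤) (e := e₁) (y := y) trivial trivial
      hQe₁ hy
    by_contra hc
    push Not at hc
    exact haa (Orth.mem_ker'.1 (Orth.sing_span (S := ⊤) (T := Orth.ker Q a) ⟨hQe₁, hQf₁, hef₁⟩
      trivial trivial (fun v _ hv0 => Orth.mem_ker'.2 (hc v hv0)) (Submodule.mem_top (x := a))))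
  have hstep : ∀ z, B e z = 0 → B a e • z - (B a z + Q z * B a e) • e ∈ C := by
    intro z hz
    obtain ⟨m, hm, mx, -⟩ := hE e z hQe hz
    have h1 : (m : Matrix ι ι F) *ᵥ a ∈ C := centres_map hm hcen
    rw [mx] at h1
    have := C.sub_mem h1 (show a ∈ C from hcen)
    convert this using 1
    abel
  have heC : e ∈ C := by
    obtain ⟨z, hz, hQz⟩ : ∃ z ∈ Orth.perp Q (Submodule.span F (Set.range ![e])), Q z ≠ 0 := by
      by_contra hc'
      push Not at hc'
      have h1 := Orth.finrank_sing_le hQ hc'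
      have := le_finrank_perp hQ ![e]
      omega
    have hez : B e z = 0 := (comm e z).trans (mem_perp_span.1 hz 0)
    have m2 := hstep ((-1 : F) • z) (by rw [smul_r, hez, mul_zero])
    rw [smul_r, Classical.Orth.map_smul'] at m2
    have := C.smul_mem (-(2 * (Q z * B a e)))⁻¹ (C.add_mem (hstep z hez) m2)
    have hne' : (2 * (Q z * B a e)) ≠ 0 := mul_ne_zero h2 (mul_ne_zero hQz hae)
    convert this using 1
    match_scalars <;> field_simp <;> ring
  have hperp : ∀ z, B e z = 0 → z ∈ C := by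
    intro z hz
    have := C.smul_mem (B a e)⁻¹ (C.add_mem (hstep z hz) (C.smul_mem (B a z + Q z * B a e) heC))
    rwa [sub_add_cancel, inv_smul_smul₀ hae] at this
  refine specialLinear_le_of_centres fun x => ?_
  have h1 := hperp (x - (B e x / B e a) • a) (by
    rw [sub_r, smul_r, div_mul_cancel₀ _ (by rw [comm]; exact hae), sub_self])
  have h2' := C.add_mem h1 (C.smul_mem (B e x / B e a) (show a ∈ C from hcen))
  rwa [sub_add_cancel] at h2'

/-- if the lifts are unique they fix the perpendicular space of `a` -/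
theorem exact_lift (h2 : (2 : F) ≠ 0) (hι : Fintype.card ι = 4) {M : Subgroup (GL ι F)}
    {a : Vec} (ha : Q a ≠ 0) (hfull : ∀ φ, φ a = 0 → Full M a φ)
    (hrefl : ∀ p q, Q p ≠ 0 → Q q ≠ 0 → B p q = 0 → ∃ t ∈ M, ∀ x,
      (t : Matrix ι ι F) *ᵥ x = x - (B x p / Q p) • p - (B x q / Q q) • q)
    (hker : ∀ ψ : Vec →ₗ[F] F, ψ a = 0 → ∀ k₁ ∈ M, ∀ k₂ ∈ M, (k₂ : Matrix ι ι F) *ᵥ a = a →
      (∀ x, (k₁ : Matrix ι ι F) *ᵥ x = (k₂ : Matrix ι ι F) *ᵥ x + ψ x • a) → ψ = 0)
    {φ : Vec →ₗ[F] F} (hφ : φ a = 0) {c : Vec} (hca : B c a = 0) (hc : φ c = 0) :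
    ∃ k ∈ M, ∀ x, (k : Matrix ι ι F) *ᵥ x = x + φ x • c := by
  have haa : B a a ≠ 0 := by rw [self2]; exact mul_ne_zero h2 ha
  -- the shape of elementary lifts
  have hshape : ∀ p q r, B p a = 0 → B q a = 0 → B r a = 0 → B p q = 0 → B p r = 0 → B q r = 0 →
      Q p ≠ 0 → Q q ≠ 0 → Q r ≠ 0 → ∀ s : F, ∃ k ∈ M, ∃ l : F,
        ∀ x, (k : Matrix ι ι F) *ᵥ x = x + (s * B x q) • p + (l * B x r) • a := by
    intro p q r hpa hqa hra hpq hpr hqr hp hq hr s
    obtain ⟨k, hk, ka, kx⟩ := (hfull (s • form Q q) (by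
      show s * B a q = 0
      rw [comm, hqa, mul_zero])).2 p (by show s * B p q = 0; rw [hpq, mul_zero])
    let θ : Vec →ₗ[F] F :=
      (B a a)⁻¹ • ((form Q a).comp (Matrix.toLin' (k : Matrix ι ι F)) - form Q a)
    have hθ : ∀ x, θ x = (B a a)⁻¹ * (B ((k : Matrix ι ι F) *ᵥ x) a - B x a) := fun x => by
      simp [θ, form]
    have kx' : ∀ x, (k : Matrix ι ι F) *ᵥ x = x + (s * B x q) • p + θ x • a := by
      intro x
      obtain ⟨t, ht⟩ := kx x
      have ht' : (k : Matrix ι ι F) *ᵥ x = x + (s * B x q) • p + t • a := ht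
      rw [hθ, ht', add_l, add_l, smul_l, smul_l, hpa, mul_zero, add_zero, add_sub_cancel_left,
        mul_comm t, inv_mul_cancel_left₀ haa]
    obtain ⟨t, htM, tx⟩ := hrefl p q hp hq hpq
    let T := Matrix.toLin' (t : Matrix ι ι F)
    have hθa : θ a = 0 := by rw [hθ, ka, sub_self, mul_zero]
    have ta : (t : Matrix ι ι F) *ᵥ a = a := by
      rw [tx, comm a p, hpa, comm a q, hqa, zero_div, zero_div, zero_smul, zero_smul, sub_zero,
        sub_zero]
    have hpp : B p p = 2 * Q p := self2 p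
    have hqq : B q q = 2 * Q q := self2 q
    have h0 := hker (θ.comp T - θ) (by simp [T, ta]) (t * k * t) (mul_mem (mul_mem htM hk) htM)
      k hk ka fun x => by
        rw [mulVec_mul_GL, mulVec_mul_GL, kx', mulVec_add, mulVec_add, mulVec_smul, mulVec_smul,
          ta, kx' x, show θ ((t : Matrix ι ι F) *ᵥ x) = (θ.comp T) x by simp [T]]
        simp only [LinearMap.sub_apply, tx, sub_l, smul_l, hpp, hqq, hpq, comm q p]
        match_scalars <;> field_simp <;> ring
    have hθp : θ p = 0 := by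
      have := LinearMap.congr_fun h0 p
      simp only [LinearMap.sub_apply, LinearMap.comp_apply, LinearMap.zero_apply, T,
        Matrix.toLin'_apply, tx, hpp, hpq, map_sub, map_smul, smul_eq_mul] at this
      field_simp at this
      refine mul_left_cancel₀ (mul_ne_zero h2 hq) ?_
      linear_combination -this
    have hθq : θ q = 0 := by
      have := LinearMap.congr_fun h0 q
      simp only [LinearMap.sub_apply, LinearMap.comp_apply, LinearMap.zero_apply, T,
        Matrix.toLin'_apply, tx, hqq, comm q p, hpq, map_sub, map_smul, smul_eq_mul] at this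
      field_simp at this
      refine mul_left_cancel₀ (mul_ne_zero h2 hp) ?_
      linear_combination -this
    refine ⟨k, hk, θ r / B r r, fun x => ?_⟩
    rw [kx']
    congr 2
    conv_lhs => rw [expand_four hQ h2 hι (by rw [comm, hpa]) (by rw [comm, hqa])
      (by rw [comm, hra]) hpq hpr hqr ha hp hq hr x]
    simp only [map_add, map_smul, hθa, hθp, hθq, smul_eq_mul]
    ring
  -- the commutator shows that they are exact
  have hel : ∀ p q r, B p a = 0 → B q a = 0 → B r a = 0 → B p q = 0 → B p r = 0 → B q r = 0 →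
      Q p ≠ 0 → Q q ≠ 0 → Q r ≠ 0 → ∀ s : F, ∃ k ∈ M,
        ∀ x, (k : Matrix ι ι F) *ᵥ x = x + (s * B x q) • p := by
    intro p q r hpa hqa hra hpq hpr hqr hp hq hr s
    have hrr : B r r ≠ 0 := by rw [self2]; exact mul_ne_zero h2 hr
    have hqq : B q q ≠ 0 := by rw [self2]; exact mul_ne_zero h2 hq
    obtain ⟨A, hA, l₁, Ax⟩ := hshape p r q hpa hra hqa hpr hpq (by rw [comm, hqr]) hp hr hq
      (s / B r r)
    obtain ⟨Y, hY, l₂, Yx⟩ := hshape r q p hra hqa hpa (by rw [comm, hqr]) (by rw [comm, hpr])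
      (by rw [comm, hpq]) hr hq hp 1
    obtain ⟨C, hC, l₃, Cx⟩ := hshape p q r hpa hqa hra hpq hpr hqr hp hq hr s
    have haq : B a q = 0 := by rw [comm, hqa]
    have har : B a r = 0 := by rw [comm, hra]
    have hap : B a p = 0 := by rw [comm, hpa]
    let ψ : Vec →ₗ[F] F := (-(l₃ + s / B r r * l₂ * B p p)) • form Q r - (l₃ * B r r) • form Q q
    have h0 := hker ψ (by simp [ψ, form, haq, har]) (A * Y) (mul_mem hA hY) (C * (Y * A))
      (mul_mem hC (mul_mem hY hA))
      (by simp only [mulVec_mul_GL, Ax, Yx, Cx, haq, har, hap, mul_zero, zero_smul, add_zero])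
      fun x => by
        simp only [mulVec_mul_GL, Ax, Yx, Cx, add_l, smul_l, haq, har, hap, hpq, hpr, comm r q,
          hqr]
        simp only [ψ, form, LinearMap.sub_apply, LinearMap.smul_apply, LinearMap.coe_mk,
          AddHom.coe_mk, smul_eq_mul]
        match_scalars <;> field_simp <;> ring
    have hl : l₃ = 0 := by
      have := LinearMap.congr_fun h0 q
      simp only [ψ, form, LinearMap.sub_apply, LinearMap.smul_apply, LinearMap.coe_mk,
        AddHom.coe_mk, smul_eq_mul, hqr, mul_zero, zero_sub, LinearMap.zero_apply,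
        neg_eq_zero] at this
      exact (mul_eq_zero.1 ((mul_eq_zero.1 this).resolve_right hqq)).resolve_right hrr
    exact ⟨C, hC, fun x => by rw [Cx, hl, zero_mul, zero_smul, add_zero]⟩
  -- all functionals
  let D : Submodule F Vec :=
    { carrier := {d | B d a = 0 ∧ ∀ c, B c a = 0 → B c d = 0 → ∀ s : F,
        ∃ k ∈ M, ∀ x, (k : Matrix ι ι F) *ᵥ x = x + (s * B x d) • c}
      add_mem' := fun {p q} hp hq => by
        obtain ⟨hpa, hp⟩ := hp
        obtain ⟨hqa, hq⟩ := hq
        refine ⟨by rw [add_l, hpa, hqa, add_zero], fun c hca hc s => ?_⟩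
        by_cases hdep : ∀ v, form Q q v = 0 → form Q p v = 0
        · obtain ⟨t, ht⟩ := exists_eq_smul hdep
          have ht' : p = t • q := OrthInLinear.right_ext hQ fun x => by
            rw [smul_r]; exact LinearMap.congr_fun ht x
          rw [ht', add_r, smul_r] at hc
          rcases eq_or_ne (t + 1) 0 with h1 | h1
          · exact ⟨1, one_mem M, fun x => by
              rw [Units.val_one, one_mulVec, ht', add_r, smul_r,
                show t * B x q + B x q = (t + 1) * B x q by ring, h1, zero_mul, mul_zero,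
                zero_smul, add_zero]⟩
          · obtain ⟨k, hk, kx⟩ := hq c hca ((mul_eq_zero.1 (show (t + 1) * B c q = 0 by
              linear_combination hc)).resolve_left h1) (s * (t + 1))
            exact ⟨k, hk, fun x => by rw [kx, ht', add_r, smul_r]; module⟩
        · push Not at hdep
          obtain ⟨v, hvq, hvp⟩ := hdep
          have hvq' : B v q = 0 := hvq
          have hvp' : B v p ≠ 0 := hvp
          obtain ⟨v', hv'⟩ : ∃ v', v' = v - (B v a / B a a) • a := ⟨_, rfl⟩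
          have hv'a : B v' a = 0 := by
            rw [hv', sub_l, smul_l, div_mul_cancel₀ _ haa, sub_self]
          have hv'q : B v' q = 0 := by
            rw [hv', sub_l, smul_l, comm a q, hqa, hvq', mul_zero, sub_zero]
          have hv'p : B v' p = B v p := by
            rw [hv', sub_l, smul_l, comm a p, hpa, mul_zero, sub_zero]
          obtain ⟨m, hm, mx⟩ := hq v' hv'a hv'q (-(B v p)⁻¹)
          rw [add_r] at hc
          obtain ⟨k, hk, kx⟩ := hp (c + ((B v p)⁻¹ * B c q) • v')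
            (by rw [add_l, smul_l, hca, hv'a, mul_zero, add_zero])
            (by rw [add_l, smul_l, hv'p, mul_comm (B v p)⁻¹, inv_mul_cancel_right₀ hvp', hc]) s
          have hmi : ∀ x, ((m⁻¹ : GL ι F) : Matrix ι ι F) *ᵥ x = x + ((B v p)⁻¹ * B x q) • v' :=
            fun x => mulVec_inj m (by
              rw [mulVec_inv_cancel, mx, add_l, smul_l, hv'q]
              module)
          refine ⟨m * k * m⁻¹, mul_mem (mul_mem hm hk) (inv_mem hm), fun x => ?_⟩
          rw [mulVec_mul_GL, mulVec_mul_GL, hmi, kx, mx, add_r]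
          simp only [add_l, smul_l, hv'q, hv'p]
          match_scalars <;> field_simp <;> ring
      zero_mem' := ⟨zero_l a, fun c _ _ s => ⟨1, one_mem M, fun x => by
        rw [Units.val_one, one_mulVec, zero_r, mul_zero, zero_smul, add_zero]⟩⟩
      smul_mem' := fun t d hd => by
        refine ⟨by rw [smul_l, hd.1, mul_zero], fun c hca hc s => ?_⟩
        rcases eq_or_ne t 0 with rfl | ht
        · exact ⟨1, one_mem M, fun x => by
            rw [Units.val_one, one_mulVec, smul_r, zero_mul, mul_zero, zero_smul, add_zero]⟩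
        rw [smul_r] at hc
        obtain ⟨k, hk, kx⟩ := hd.2 c hca ((mul_eq_zero.1 hc).resolve_left ht) (s * t)
        exact ⟨k, hk, fun x => by rw [kx, smul_r, mul_assoc]⟩ }
  have hbase : ∀ p q r, B p a = 0 → B q a = 0 → B r a = 0 → B p q = 0 → B p r = 0 → B q r = 0 →
      Q p ≠ 0 → Q q ≠ 0 → Q r ≠ 0 → q ∈ D := by
    intro p q r hpa hqa hra hpq hpr hqr hp hq hr
    refine ⟨hqa, fun c hca hcq s => ?_⟩
    have hex := expand_four hQ h2 hι (by rw [comm, hpa]) (by rw [comm, hqa])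
      (by rw [comm, hra]) hpq hpr hqr ha hp hq hr c
    rw [hca, hcq, zero_div, zero_div, zero_smul, zero_smul, zero_add, add_zero] at hex
    obtain ⟨k, hk, kx⟩ := hel p q r hpa hqa hra hpq hpr hqr hp hq hr (s * (B c p / B p p))
    obtain ⟨k', hk', k'x⟩ := hel r q p hra hqa hpa (by rw [comm, hqr]) (by rw [comm, hpr])
      (by rw [comm, hpq]) hr hq hp (s * (B c r / B r r))
    refine ⟨k * k', mul_mem hk hk', fun x => ?_⟩
    rw [mulVec_mul_GL, k'x, kx, add_l, smul_l, comm r q, hqr]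
    conv_rhs => rw [hex]
    module
  obtain ⟨e₁, he₁, h₁⟩ := exists_aniso_perp hQ h2 ![a] (by omega)
    (fun i j hij => absurd (Subsingleton.elim i j) hij) (fun i => by fin_cases i; exact ha)
  have h1a : B e₁ a = 0 := h₁ 0
  obtain ⟨e₂, he₂, h₂⟩ := exists_aniso_perp hQ h2 ![a, e₁] (by omega)
    (fun i j hij => by
      fin_cases i <;> fin_cases j <;> first
        | exact absurd rfl hij
        | exact h1a
        | exact (comm _ _).trans h1a)
    (fun i => by fin_cases i <;> assumption)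
  have h2a : B e₂ a = 0 := h₂ 0
  have h21 : B e₂ e₁ = 0 := h₂ 1
  obtain ⟨e₃, he₃, h₃⟩ := exists_aniso_perp hQ h2 ![a, e₁, e₂] (by omega)
    (fun i j hij => by
      fin_cases i <;> fin_cases j <;> first
        | exact absurd rfl hij
        | exact h1a
        | exact h2a
        | exact h21
        | exact (comm _ _).trans h1a
        | exact (comm _ _).trans h2a
        | exact (comm _ _).trans h21)
    (fun i => by fin_cases i <;> assumption)
  have h3a : B e₃ a = 0 := h₃ 0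
  have h31 : B e₃ e₁ = 0 := h₃ 1
  have h32 : B e₃ e₂ = 0 := h₃ 2
  have d₁ : e₁ ∈ D := hbase e₂ e₁ e₃ h2a h1a h3a h21 (by rw [comm, h32]) (by rw [comm, h31])
    he₂ he₁ he₃
  have d₂ : e₂ ∈ D := hbase e₁ e₂ e₃ h1a h2a h3a (by rw [comm, h21]) (by rw [comm, h31])
    (by rw [comm, h32]) he₁ he₂ he₃
  have d₃ : e₃ ∈ D := hbase e₁ e₃ e₂ h1a h3a h2a (by rw [comm, h31]) (by rw [comm, h21]) h32
    he₁ he₃ he₂
  obtain ⟨d, hd⟩ := exists_repr hQ φ
  have hex := expand_four hQ h2 hι (by rw [comm, h1a]) (by rw [comm, h2a]) (by rw [comm, h3a])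
    (by rw [comm, h21]) (by rw [comm, h31]) (by rw [comm, h32]) ha he₁ he₂ he₃ d
  rw [show B d a = 0 by rw [comm, hd, hφ], zero_div, zero_smul, zero_add] at hex
  have hdD : d ∈ D := hex ▸ D.add_mem (D.add_mem (D.smul_mem _ d₁) (D.smul_mem _ d₂))
    (D.smul_mem _ d₃)
  obtain ⟨k, hk, kx⟩ := hdD.2 c hca (by rw [hd, hc]) 1
  exact ⟨k, hk, fun x => by rw [kx, one_mul, hd]⟩

theorem similarity_maximal (h2 : (2 : F) ≠ 0) (hι : Fintype.card ι = 4)
    (H : Subgroup (GL ι F)) (hH : H ≤ Cfsg.Geo.specialLinear ι F)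
    (hmem : ∀ g : GL ι F, g ∈ H ↔ g ∈ Cfsg.Geo.specialLinear ι F ∧
      ∃ c : Fˣ, ∀ v, Q ((g : Matrix ι ι F) *ᵥ v) = (c : F) * Q v) :
    Cfsg.Geo.IsMaximalIn (Cfsg.Geo.specialLinear ι F) H := by
  classical
  have hrow : ∀ w : Vec, ∃ φ : Vec, ∀ x, φ ⬝ᵥ x = B x w := fun w => exists_row (form Q w)
  refine isMaximalIn_of hH (fun hle => ?_) fun M hM hMK g hgM hg => ?_
  · -- a transvection that is no similarity
    obtain ⟨u, -, hu0, hu⟩ := Orth.exists_sing hQ (S := ⊤)
      (by rw [finrank_top, Module.finrank_fintype_fun_eq_card]; omega)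
    have huu : B u u = 0 := by rw [self2, hu, mul_zero]
    obtain ⟨φ, hφ⟩ := hrow u
    obtain ⟨-, c, hc⟩ := (hmem _).1 (hle (trv_mem_SL u φ (by rw [hφ, huu])))
    have happ : ∀ x, Q ((trv u φ (by rw [hφ, huu]) : Matrix ι ι F) *ᵥ x) = Q x + B x u * B x u := by
      intro x
      rw [trv_mulVec, hφ, Classical.Orth.map_add', Classical.Orth.map_smul', hu, smul_r]
      ring
    obtain ⟨z, hz, hQz⟩ : ∃ z ∈ Orth.perp Q (Submodule.span F (Set.range ![u])), Q z ≠ 0 := by
      by_contra hc'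
      push Not at hc'
      have h1 := Orth.finrank_sing_le hQ hc'
      have := le_finrank_perp hQ ![u]
      omega
    have hzu : B z u = 0 := mem_perp_span.1 hz 0
    have h1 := hc z
    rw [happ, hzu, mul_zero, add_zero] at h1
    have hc1 : (c : F) = 1 := (mul_eq_right₀ hQz).1 h1.symm
    obtain ⟨x, hx⟩ := Orth.exists_ne hQ hu0
    have h3 := hc x
    rw [happ, hc1, one_mul, add_eq_left, comm] at h3
    exact hx (mul_self_eq_zero.1 h3)
  have hE : EichIn Q M := by
    intro u w hu huw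
    have huu : B u u = 0 := by rw [self2, hu, mul_zero]
    have hwu : B w u = 0 := (comm _ _).trans huw
    obtain ⟨φ₁, hφ₁⟩ := hrow u
    obtain ⟨φ₂, hφ₂⟩ := hrow (Q w • u - w)
    have h₁ : φ₁ ⬝ᵥ w = 0 := by rw [hφ₁, hwu]
    have h₂ : φ₂ ⬝ᵥ u = 0 := by rw [hφ₂, sub_r, smul_r, huu, huw, mul_zero, sub_zero]
    have happ : ∀ x, ((trv u φ₂ h₂ * trv w φ₁ h₁ : GL ι F) : Matrix ι ι F) *ᵥ x =
        x + B x u • w - (B x w + Q w * B x u) • u := fun x => by
      rw [mulVec_mul_GL, trv_mulVec, trv_mulVec, hφ₁, hφ₂]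
      simp only [add_l, sub_r, smul_l, smul_r, self2 w, hwu, mul_zero, add_zero]
      module
    have hQk : ∀ x, Q (((trv u φ₂ h₂ * trv w φ₁ h₁ : GL ι F) : Matrix ι ι F) *ᵥ x) = Q x := fun x => by
      rw [happ, sub_eq_add_neg, ← neg_smul]
      simp only [Classical.Orth.map_add', Classical.Orth.map_smul', hu, add_l, smul_l, smul_r, hwu]
      ring
    refine ⟨_, hM ((hmem _).2 ⟨mul_mem (trv_mem_SL _ _ _) (trv_mem_SL _ _ _), 1,
      fun x => by rw [hQk, Units.val_one, one_mul]⟩), happ, fun x y => ?_⟩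
    simp only [QuadraticMap.polar, ← Matrix.mulVec_add, hQk]
  obtain ⟨u, hu, hgu⟩ : ∃ u, Q u = 0 ∧ Q ((g : Matrix ι ι F) *ᵥ u) ≠ 0 := by
    by_contra hc
    push Not at hc
    exact hg ((hmem g).2 ⟨hMK hgM, similarity_of_sing hQ h2 hι g hc⟩)
  set a := (g : Matrix ι ι F) *ᵥ u with ha
  have hu0 : u ≠ 0 := fun e => hgu (by rw [ha, e, mulVec_zero, QuadraticMap.map_zero])
  have huu : B u u = 0 := by rw [self2, hu, mul_zero]
  let φ₀ : Vec →ₗ[F] F :=
    (form Q u).comp (Matrix.toLin' ((g⁻¹ : GL ι F) : Matrix ι ι F))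
  have hφ₀ : ∀ x, φ₀ x = B (((g⁻¹ : GL ι F) : Matrix ι ι F) *ᵥ x) u := fun x => by
    simp [φ₀, form]
  have hφ₀a : φ₀ a = 0 := by rw [hφ₀, ha, inv_mulVec_cancel, huu]
  have hconj : ∀ w, B w u = 0 → ∃ k ∈ M, (k : Matrix ι ι F) *ᵥ a = a ∧ ∀ x,
      (k : Matrix ι ι F) *ᵥ x = x + φ₀ x • ((g : Matrix ι ι F) *ᵥ w) -
        (B (((g⁻¹ : GL ι F) : Matrix ι ι F) *ᵥ x) w + Q w * φ₀ x) • a := by
    intro w hw
    obtain ⟨k, hk, kx, -⟩ := hE u w hu ((comm _ _).trans hw)
    have he : ∀ x, ((g * k * g⁻¹ : GL ι F) : Matrix ι ι F) *ᵥ x =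
        x + φ₀ x • ((g : Matrix ι ι F) *ᵥ w) -
          (B (((g⁻¹ : GL ι F) : Matrix ι ι F) *ᵥ x) w + Q w * φ₀ x) • a := fun x => by
      rw [mulVec_mul_GL, mulVec_mul_GL, kx, mulVec_sub, mulVec_add, mulVec_smul, mulVec_smul,
        mulVec_inv_cancel, ← hφ₀, ← ha]
    refine ⟨_, mul_mem (mul_mem hgM hk) (inv_mem hgM), ?_, he⟩
    rw [he, hφ₀a, ha, inv_mulVec_cancel, (comm u w).trans hw, mul_zero, add_zero, zero_smul,
      zero_smul, add_zero, sub_zero]
  have h₀ : Full M a φ₀ := by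
    refine ⟨hφ₀a, fun c hc => ?_⟩
    rw [hφ₀] at hc
    obtain ⟨k, hk, ka, kx⟩ := hconj _ hc
    refine ⟨k, hk, ka, fun x => ?_⟩
    refine ⟨-(B (((g⁻¹ : GL ι F) : Matrix ι ι F) *ᵥ x) (((g⁻¹ : GL ι F) : Matrix ι ι F) *ᵥ c) +
      Q (((g⁻¹ : GL ι F) : Matrix ι ι F) *ᵥ c) * φ₀ x), ?_⟩
    rw [kx, mulVec_inv_cancel, neg_smul, ← sub_eq_add_neg]
  have hne : φ₀ ≠ 0 := fun e => by
    obtain ⟨y, hy⟩ := Orth.exists_ne hQ hu0
    have := LinearMap.congr_fun e ((g : Matrix ι ι F) *ᵥ y)
    rw [hφ₀, inv_mulVec_cancel, comm] at this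
    exact hy this
  have hfull := fun (φ : Vec →ₗ[F] F) (hφ : φ a = 0) => all_full hQ h2 hι hE hgu h₀ hne hφ
  by_contra hcon
  have hker : ∀ ψ : Vec →ₗ[F] F, ψ a = 0 → ∀ k₁ ∈ M, ∀ k₂ ∈ M,
      (k₂ : Matrix ι ι F) *ᵥ a = a →
      (∀ x, (k₁ : Matrix ι ι F) *ᵥ x = (k₂ : Matrix ι ι F) *ᵥ x + ψ x • a) → ψ = 0 := by
    intro ψ hψ k₁ hk₁ k₂ hk₂ ka kx
    by_contra hψ0
    refine hcon (le_of_kernel hQ h2 hι hE hgu hfull hψ hψ0 (mul_mem (inv_mem hk₂) hk₁) fun x => ?_)
    rw [mulVec_mul_GL, kx, mulVec_add, mulVec_smul, inv_mulVec_cancel, inv_fix ka]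
  have hrefl : ∀ p q, Q p ≠ 0 → Q q ≠ 0 → B p q = 0 → ∃ t ∈ M, ∀ x,
      (t : Matrix ι ι F) *ᵥ x = x - (B x p / Q p) • p - (B x q / Q q) • q := by
    intro p q hp hq hpq
    let t : GL ι F := ((QuadStd.reflect Q p : Cfsg.isometryGroup F ⇑Q) : GL ι F) *
      ((QuadStd.reflect Q q : Cfsg.isometryGroup F ⇑Q) : GL ι F)
    have hval : (t : Matrix ι ι F) = Cfsg.reflectionMatrix ⇑Q p * Cfsg.reflectionMatrix ⇑Q q :=
      rfl
    refine ⟨t, hM ((hmem _).2 ⟨mem_specialLinear.2 ?_, 1, fun v => ?_⟩), fun x => ?_⟩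
    · rw [hval, det_mul, QuadStd.reflection_det Q hp, QuadStd.reflection_det Q hq,
        neg_one_mul, neg_neg]
    · rw [hval, ← mulVec_mulVec, QuadStd.reflection_map, QuadStd.reflection_map, Units.val_one,
        one_mul]
    · rw [hval, ← mulVec_mulVec, QuadStd.reflection_mulVec, QuadStd.reflection_mulVec, comm q x,
        sub_r, smul_r, hpq, mul_zero, sub_zero, comm p x]
      module
  -- an Eichler element moved by `g`
  have haa : B a a ≠ 0 := by rw [self2]; exact mul_ne_zero h2 hgu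
  obtain ⟨w, hwS, hw⟩ : ∃ w ∈ Orth.perp Q (Submodule.span F (Set.range ![u])),
      w ∉ Submodule.span F {u} := SetLike.not_le_iff_exists.1 fun hle => by
    have h1 := Submodule.finrank_mono hle
    have h2' := le_finrank_perp hQ ![u]
    have h3 : Module.finrank F (Submodule.span F ({u} : Set Vec)) = 1 := finrank_span_singleton hu0
    omega
  have hwu : B w u = 0 := mem_perp_span.1 hwS 0
  obtain ⟨y, hyu, hyw⟩ := Orth.exists_perp_ne hQ hw
  obtain ⟨k, hk, -, kx⟩ := hconj w hwu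
  obtain ⟨γ, hγ⟩ : ∃ γ, γ = B ((g : Matrix ι ι F) *ᵥ w) a / B a a := ⟨_, rfl⟩
  obtain ⟨l, hl, lx⟩ := exact_lift hQ h2 hι hgu hfull hrefl hker hφ₀a
    (c := (g : Matrix ι ι F) *ᵥ w - γ • a)
    (by rw [sub_l, smul_l, hγ, div_mul_cancel₀ _ haa, sub_self])
    (by rw [map_sub, map_smul, hφ₀a, smul_zero, sub_zero, hφ₀, inv_mulVec_cancel, hwu])
  let ψ : Vec →ₗ[F] F :=
    (γ - Q w) • φ₀ - (form Q w).comp (Matrix.toLin' ((g⁻¹ : GL ι F) : Matrix ι ι F))
  have hψ : ∀ x, ψ x = (γ - Q w) * φ₀ x - B (((g⁻¹ : GL ι F) : Matrix ι ι F) *ᵥ x) w := fun x => by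
    simp [ψ, form]
  have hψ0 := hker ψ (by rw [hψ, hφ₀a, ha, inv_mulVec_cancel, comm, hwu, mul_zero, sub_zero])
    k hk l hl (by rw [lx, hφ₀a, zero_smul, add_zero]) fun x => by
      rw [kx, lx, hψ]
      module
  have h := LinearMap.congr_fun hψ0 ((g : Matrix ι ι F) *ᵥ y)
  rw [hψ, hφ₀, inv_mulVec_cancel, comm y u, hyu, mul_zero, zero_sub, LinearMap.zero_apply,
    neg_eq_zero, comm] at h
  exact hyw h

omit hQ

/-- the orthogonal similarity groups are maximal in `SL₄(q)`, `q` odd -/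
theorem orth_maximal {F : Type*} [Field F] [Fintype F] :
    Odd (Fintype.card F) → ∀ Q : (Fin 4 → F) → F, Cfsg.Geo.IsNondegenerateQuadraticForm Q →
      Cfsg.Geo.IsMaximalIn (Cfsg.Geo.specialLinear (Fin 4) F)
        (Cfsg.Geo.quadSimilarityGroup Q ⊓ Cfsg.Geo.specialLinear (Fin 4) F) := by
  intro hodd Q hQ
  obtain ⟨R, rfl, hR⟩ := Max.Orth.exists_form hQ
  have h2 : (2 : F) ≠ 0 := Ring.two_ne_zero fun h => by
    have he := FiniteField.even_card_of_char_two (F := F) h
    rw [Nat.odd_iff] at hodd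
    omega
  exact similarity_maximal hR h2 (Fintype.card_fin 4) _ inf_le_right
    fun g => ⟨fun h => ⟨h.2, h.1⟩, fun h => ⟨h.2, h.1⟩⟩

end Cfsg.Agent.Forms.Max.SL4.Orth
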