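import Mathlib
import Cfsg.Agent.Lib.Forms.Max.LinearDecomp

/-!
# Stabilisers of two planes are maximal in the special linear group of degree four

The argument of the general case, except where it needed a third member: when the row is non-zero on both planes and
kills both components of the centre, a diagonal element separates the two cross terms as soon as there are four
scalars.
-/

set_option autoImplicit false
set_option linter.unusedSectionVars false

namespace Cfsg.Agent.Forms.Max.SL4.Planes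

open Matrix Cfsg.Agent.Aschbacher Cfsg.Agent.Forms.Max Cfsg.Agent.Forms.Max.LinearDecomp

variable {F : Type*} [Field F] {D : Fin 2 → Submodule F (Fin 4 → F)}

local notation "Vec" => (Fin 4 → F)
local notation "G" => GL (Fin 4) F

theorem two_pr (hD : Cfsg.Geo.IsMDecomposition 2 D) {l j : Fin 2} (h : l ≠ j) (x : Vec) :
    pr hD l x + pr hD j x = x := by
  have h1 : (Finset.univ : Finset (Fin 2)) = {l, j} := by
    revert l j; decide
  conv_rhs => rw [← sum_pr hD x, h1, Finset.sum_pair h]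

theorem sl_le (hD : Cfsg.Geo.IsMDecomposition 2 D) {M : Subgroup (GL (Fin 4) F)} (hM : PermM D M) {s : F}
    (hs0 : s ≠ 0) (hs1 : s ^ 2 ≠ 1) {g : G} (hg : g ∈ M)
    (hgs : g ∉ Cfsg.Geo.decompositionStabilizer D) : Cfsg.Geo.specialLinear (Fin 4) F ≤ M := by
  classical
  have hm : (2 : ℕ) ≤ 2 := le_rfl
  obtain ⟨i, a, ha, hga⟩ := exists_outside hD hgs
  have ha0 : a ≠ 0 := by rintro rfl; exact hga i (by rw [mulVec_zero]; exact zero_mem _)
  obtain ⟨z, hz, hza⟩ := exists_indep hD hm i a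
  obtain ⟨ψ, hψa, hψz, hψo⟩ := exists_row_in hD hz (S := Submodule.span F {a})
    ((Submodule.span_singleton_le_iff_mem _ _).2 ha) hza
  set φ := ψ ᵥ* ((g⁻¹ : G) : Matrix (Fin 4) (Fin 4) F)
  set u := (g : Matrix (Fin 4) (Fin 4) F) *ᵥ a
  have hdot : ∀ x, φ ⬝ᵥ x = ψ ⬝ᵥ (((g⁻¹ : G) : Matrix (Fin 4) (Fin 4) F) *ᵥ x) := fun x => (dotProduct_mulVec _ _ _).symm
  have hφu : φ ⬝ᵥ u = 0 := by
    rw [hdot, inv_mulVec_cancel]; exact hψa a (Submodule.mem_span_singleton_self a)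
  have hT : trv u φ hφu ∈ M :=
    trv_conj_mem (inner hD hM ha hψo (hψa a (Submodule.mem_span_singleton_self a))) hg rfl
      (fun x => by rw [hdot, inv_mulVec_cancel]) hφu
  have hφ0 : ∃ j, ∃ b ∈ D j, φ ⬝ᵥ b ≠ 0 := by
    by_contra hc
    push Not at hc
    have : φ ⬝ᵥ ((g : Matrix (Fin 4) (Fin 4) F) *ᵥ z) = 0 := by
      rw [← sum_pr hD ((g : Matrix (Fin 4) (Fin 4) F) *ᵥ z), dotProduct_sum]
      exact Finset.sum_eq_zero fun l _ => hc l _ (pr_mem hD l _)
    rw [hdot, inv_mulVec_cancel, hψz] at this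
    exact one_ne_zero this
  -- an edge from a member meeting the centre
  have edge : ∀ {φ : Vec} {h : φ ⬝ᵥ u = 0}, trv u φ h ∈ M → ∀ l a', a' ∈ D l → φ ⬝ᵥ a' = 0 →
      pr hD l u ≠ 0 → a' ∉ Submodule.span F {pr hD l u} → ∀ j, j ≠ l → ∀ b ∈ D j, φ ⬝ᵥ b ≠ 0 →
      ∃ l j, l ≠ j ∧ Join (D := D) (M := M) l j := by
    intro φ h hT l a' ha' hφa hpu hind j hjl b hb hφb
    have hnot : pr hD l u ∉ Submodule.span F {a'} := fun hmem => by
      obtain ⟨c, hc⟩ := Submodule.mem_span_singleton.1 hmem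
      rcases eq_or_ne c 0 with rfl | hc0
      · exact hpu (by rw [← hc, zero_smul])
      · exact hind (Submodule.mem_span_singleton.2 ⟨c⁻¹, by rw [← hc, inv_smul_smul₀ hc0]⟩)
    obtain ⟨χ, hχa, hχu, hχo⟩ := exists_row_in hD (pr_mem hD l u) (S := Submodule.span F {a'})
      ((Submodule.span_singleton_le_iff_mem _ _).2 ha') hnot
    have hx := inner hD hM ha' hχo (hχa a' (Submodule.mem_span_singleton_self a'))
    have hu' : φ ⬝ᵥ (u + a') = 0 := by rw [dotProduct_add, h, hφa, add_zero]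
    have h1 : trv (u + a') φ hu' ∈ M := by
      refine trv_conj_mem hT hx ?_ (fun x => ?_) hu'
      · rw [trv_mulVec, row_pr hD hχo u, hχu, one_smul]
      · rw [trv_mulVec, dotProduct_add, dotProduct_smul, hφa, smul_zero, add_zero]
    have h2 : trv a' φ hφa ∈ M := by
      convert mul_mem h1 (inv_mem hT) using 1
      rw [eq_mul_inv_iff_mul_eq]
      refine gl_ext fun x => ?_
      rw [mulVec_mul_GL, trv_mulVec, trv_mulVec, trv_mulVec, dotProduct_add, dotProduct_smul, h]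
      simp
      module
    obtain ⟨z', hz', hzb⟩ := exists_indep hD hm j b
    obtain ⟨χ', hχb, hχz, hχo'⟩ := exists_row_in hD hz' (S := Submodule.span F {b})
      ((Submodule.span_singleton_le_iff_mem _ _).2 hb) hzb
    have hcχ : ∀ r, r ≠ j → ∀ x ∈ D r, ((φ ⬝ᵥ b) • χ') ⬝ᵥ x = 0 := fun r hr x hx => by
      rw [smul_dotProduct, hχo' r hr x hx, smul_zero]
    have hca : ((φ ⬝ᵥ b) • χ') ⬝ᵥ a' = 0 := hcχ l hjl.symm a' ha'
    have hna : (φ - (φ ⬝ᵥ b) • χ') ⬝ᵥ a' = 0 := by rw [sub_dotProduct, hφa, hca, sub_zero]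
    have hy := inner hD hM hb hχo' (hχb b (Submodule.mem_span_singleton_self b))
    have h3 : trv a' (φ - (φ ⬝ᵥ b) • χ') hna ∈ M := by
      refine trv_conj_mem h2 hy ?_ (fun x => ?_) hna
      · rw [trv_mulVec, hχo' l hjl.symm a' ha', zero_smul, add_zero]
      · rw [trv_mulVec, dotProduct_add, dotProduct_smul, sub_dotProduct, sub_dotProduct, smul_dotProduct,
          smul_dotProduct, hχb b (Submodule.mem_span_singleton_self b), smul_zero, sub_zero, smul_eq_mul, smul_eq_mul,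
          mul_comm (χ' ⬝ᵥ x), sub_add_cancel]
    have h4 : trv a' ((φ ⬝ᵥ b) • χ') hca ∈ M := by
      convert mul_mem (inv_mem h3) h2 using 1
      rw [eq_inv_mul_iff_mul_eq]
      refine gl_ext fun x => ?_
      rw [mulVec_mul_GL, trv_mulVec, trv_mulVec, trv_mulVec, dotProduct_add, dotProduct_smul, hna, sub_dotProduct]
      simp
      module
    have ha'0 : a' ≠ 0 := fun e => hind (e ▸ zero_mem _)
    exact ⟨l, j, hjl.symm, join_of_one hD hM hm hjl.symm ha' ha'0 hcχ hz'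
      (by rw [smul_dotProduct, hχz, smul_eq_mul, mul_one]; exact hφb) h4⟩
  obtain ⟨l, j, hlj, hJ⟩ : ∃ l j, l ≠ j ∧ Join (D := D) (M := M) l j := by
    obtain ⟨j₀, b₀, hb₀, hφb₀⟩ := hφ0
    by_cases hA : ∃ l, pr hD l u ≠ 0 ∧ ∃ a' ∈ D l, φ ⬝ᵥ a' = 0 ∧ a' ∉ Submodule.span F {pr hD l u} ∧
        ∃ j, j ≠ l ∧ ∃ b ∈ D j, φ ⬝ᵥ b ≠ 0
    · obtain ⟨l, hl, a', ha', h1, h2, j, hj, b, hb, h3⟩ := hA
      exact edge hT l a' ha' h1 hl h2 j hj b hb h3
    push Not at hA
    obtain ⟨l'', hl''j, hl''⟩ := exists_two_pr hD hga j₀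
    obtain ⟨l₂, hl₂, hl₂u⟩ := exists_two_pr hD hga l''
    -- the kernel on each member lies in the line of the component
    have hker : ∀ l j b, pr hD l u ≠ 0 → j ≠ l → b ∈ D j → φ ⬝ᵥ b ≠ 0 → ∀ a' ∈ D l, φ ⬝ᵥ a' = 0 →
        a' ∈ Submodule.span F {pr hD l u} := by
      intro l j b hl hjl hb hφb a' ha' h1
      by_contra h2
      exact hφb (hA l hl a' ha' h1 h2 j hjl b hb)
    have hker1 := hker l'' j₀ b₀ hl'' hl''j.symm hb₀ hφb₀
    obtain ⟨e, he, hφe⟩ : ∃ e ∈ D l'', φ ⬝ᵥ e = 1 := by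
      obtain ⟨w, hw, hwu⟩ := exists_indep hD hm l'' (pr hD l'' u)
      have hne : φ ⬝ᵥ w ≠ 0 := fun h => hwu (hker1 w hw h)
      exact ⟨(φ ⬝ᵥ w)⁻¹ • w, (D l'').smul_mem _ hw, by rw [dotProduct_smul, smul_eq_mul, inv_mul_cancel₀ hne]⟩
    have hker2 := hker l₂ l'' e hl₂u hl₂.symm he (by rw [hφe]; exact one_ne_zero)
    obtain ⟨e', he', hφe'⟩ : ∃ e ∈ D l₂, φ ⬝ᵥ e = 1 := by
      obtain ⟨w, hw, hwu⟩ := exists_indep hD hm l₂ (pr hD l₂ u)
      have hne : φ ⬝ᵥ w ≠ 0 := fun h => hwu (hker2 w hw h)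
      exact ⟨(φ ⬝ᵥ w)⁻¹ • w, (D l₂).smul_mem _ hw, by rw [dotProduct_smul, smul_eq_mul, inv_mul_cancel₀ hne]⟩
    -- the components of the centre are killed
    set p := pr hD l'' u with hp
    set p' := pr hD l₂ u with hp'
    have hsum : p + p' = u := two_pr hD hl₂.symm u
    have hφp : φ ⬝ᵥ p = 0 := by
      by_contra hne
      obtain ⟨w, hw, hwu⟩ := exists_indep hD hm l'' p
      set w' := w - (φ ⬝ᵥ w / φ ⬝ᵥ p) • p
      have h1 : φ ⬝ᵥ w' = 0 := by
        rw [dotProduct_sub, dotProduct_smul, smul_eq_mul, div_mul_cancel₀ _ hne, sub_self]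
      have := hker1 w' ((D l'').sub_mem hw ((D l'').smul_mem _ (pr_mem hD l'' u))) h1
      exact hwu (by
        have h2 := Submodule.add_mem _ this
          (Submodule.smul_mem _ (φ ⬝ᵥ w / φ ⬝ᵥ p) (Submodule.mem_span_singleton_self p))
        rwa [sub_add_cancel] at h2)
    have hφp' : φ ⬝ᵥ p' = 0 := by
      have := hφu
      rw [← hsum, dotProduct_add, hφp, zero_add] at this
      exact this
    -- the row on each plane
    obtain ⟨χ, hχ⟩ := exists_row
      ({ toFun := fun x => φ ⬝ᵥ pr hD l'' x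
         map_add' := fun x y => by rw [map_add, dotProduct_add]
         map_smul' := fun c x => by rw [map_smul, dotProduct_smul, RingHom.id_apply] } : Vec →ₗ[F] F)
    obtain ⟨χ', hχ'⟩ := exists_row
      ({ toFun := fun x => φ ⬝ᵥ pr hD l₂ x
         map_add' := fun x y => by rw [map_add, dotProduct_add]
         map_smul' := fun c x => by rw [map_smul, dotProduct_smul, RingHom.id_apply] } : Vec →ₗ[F] F)
    have kχ : ∀ x, χ ⬝ᵥ x = φ ⬝ᵥ pr hD l'' x := hχ
    have kχ' : ∀ x, χ' ⬝ᵥ x = φ ⬝ᵥ pr hD l₂ x := hχ'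
    have hφsum : ∀ x, φ ⬝ᵥ x = χ ⬝ᵥ x + χ' ⬝ᵥ x := fun x => by
      rw [kχ, kχ', ← dotProduct_add, two_pr hD hl₂.symm x]
    have hχo : ∀ i, i ≠ l'' → ∀ x ∈ D i, χ ⬝ᵥ x = 0 := fun i hi x hx => by
      rw [kχ, pr_other hD hi.symm hx, dotProduct_zero]
    have hχ'o : ∀ i, i ≠ l₂ → ∀ x ∈ D i, χ' ⬝ᵥ x = 0 := fun i hi x hx => by
      rw [kχ', pr_other hD hi.symm hx, dotProduct_zero]
    have hpm : p ∈ D l'' := pr_mem hD l'' u
    have hp'm : p' ∈ D l₂ := pr_mem hD l₂ u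
    have χp : χ ⬝ᵥ p = 0 := by rw [kχ, pr_self hD hpm, hφp]
    have χp' : χ ⬝ᵥ p' = 0 := hχo l₂ hl₂ p' hp'm
    have χ'p : χ' ⬝ᵥ p = 0 := hχ'o l'' hl₂.symm p hpm
    have χ'p' : χ' ⬝ᵥ p' = 0 := by rw [kχ', pr_self hD hp'm, hφp']
    have χe : χ ⬝ᵥ e = 1 := by rw [kχ, pr_self hD he, hφe]
    have χ'e : χ' ⬝ᵥ e = 0 := hχ'o l'' hl₂.symm e he
    -- the diagonal element
    have hp'n : p' ∉ Submodule.span F {e'} := fun hmem => by
      obtain ⟨r, hr⟩ := Submodule.mem_span_singleton.1 hmem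
      have h0 := hφp'
      rw [← hr, dotProduct_smul, hφe', smul_eq_mul, mul_one] at h0
      exact hl₂u (by show p' = 0; rw [← hr, h0, zero_smul])
    obtain ⟨ρ, -, hρp', hρo⟩ := exists_row_in hD hp'm (S := Submodule.span F {e'})
      ((Submodule.span_singleton_le_iff_mem _ _).2 he') hp'n
    have ρe : ρ ⬝ᵥ e = 0 := hρo l'' hl₂.symm e he
    have ρp : ρ ⬝ᵥ p = 0 := hρo l'' hl₂.symm p hpm
    obtain ⟨g₁, hd₁, hg₁⟩ := LinearBlocks.exists_update ((s⁻¹ - 1) • e) χ
      (by rw [dotProduct_smul, χe, smul_eq_mul, mul_one, add_sub_cancel]; exact inv_ne_zero hs0)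
    obtain ⟨g₂, hd₂, hg₂⟩ := LinearBlocks.exists_update ((s - 1) • p') ρ
      (by rw [dotProduct_smul, hρp', smul_eq_mul, mul_one, add_sub_cancel]; exact hs0)
    have hgx : ∀ x, ((g₂ * g₁ : G) : Matrix (Fin 4) (Fin 4) F) *ᵥ x =
        x + ((χ ⬝ᵥ x) * (s⁻¹ - 1)) • e + ((ρ ⬝ᵥ x) * (s - 1)) • p' := fun x => by
      rw [mulVec_mul_GL, hg₁, hg₂, dotProduct_add, dotProduct_smul, dotProduct_smul, ρe, smul_smul, smul_smul]
      simp
    have hdiag : g₂ * g₁ ∈ M := by
      refine hM _ (Aschbacher.mem_specialLinear.2 ?_) ⟨1, fun i x hx => ?_⟩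
      · rw [Units.val_mul, Matrix.det_mul, hd₁, hd₂, dotProduct_smul, hρp', dotProduct_smul, χe]
        simp only [smul_eq_mul, mul_one, add_sub_cancel]
        exact mul_inv_cancel₀ hs0
      · rw [hgx, Equiv.Perm.one_apply]
        refine (D i).add_mem ((D i).add_mem hx ?_) ?_
        · by_cases hi : i = l''
          · exact (D i).smul_mem _ (hi ▸ he)
          · rw [hχo i hi x hx, zero_mul, zero_smul]; exact (D i).zero_mem
        · by_cases hi : i = l₂
          · exact (D i).smul_mem _ (hi ▸ hp'm)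
          · rw [hρo i hi x hx, zero_mul, zero_smul]; exact (D i).zero_mem
    have hu' : (s • χ + χ') ⬝ᵥ (p + s • p') = 0 := by
      simp [add_dotProduct, smul_dotProduct, dotProduct_add, dotProduct_smul, χp, χp', χ'p, χ'p']
    have hT' : trv (p + s • p') (s • χ + χ') hu' ∈ M := by
      refine trv_conj_mem hT hdiag ?_ (fun x => ?_) hu'
      · rw [hgx, ← hsum, dotProduct_add, dotProduct_add, χp, χp', ρp, hρp']
        simp
        module
      · rw [hgx, hφsum x]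
        simp only [add_dotProduct, smul_dotProduct, dotProduct_add, dotProduct_smul, χe, χ'e, χp', χ'p',
          smul_eq_mul]
        field_simp
        ring
    have hA0 : ((s ^ 2 - 1) • χ) ⬝ᵥ p' = 0 := by rw [smul_dotProduct, χp', smul_zero]
    have hB0 : ((s - 1) • χ) ⬝ᵥ p = 0 := by rw [smul_dotProduct, χp, smul_zero]
    have hC0 : ((s - 1) • χ') ⬝ᵥ p' = 0 := by rw [smul_dotProduct, χ'p', smul_zero]
    have hBM := inner hD hM hpm (ψ := (s - 1) • χ)
      (fun i hi x hx => by rw [smul_dotProduct, hχo i hi x hx, smul_zero]) hB0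
    have hCM := inner hD hM hp'm (ψ := (s - 1) • χ')
      (fun i hi x hx => by rw [smul_dotProduct, hχ'o i hi x hx, smul_zero]) hC0
    have hprod : trv (p + s • p') (s • χ + χ') hu' =
        trv p' ((s ^ 2 - 1) • χ) hA0 * (trv p ((s - 1) • χ) hB0 * (trv p' ((s - 1) • χ') hC0 * trv u φ hφu)) := by
      refine gl_ext fun x => ?_
      simp only [mulVec_mul_GL, trv_mulVec, smul_dotProduct, add_dotProduct, dotProduct_add, dotProduct_smul,
        hφsum x, ← hsum, χp, χp', χ'p, χ'p', smul_eq_mul, mul_zero, add_zero]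
      module
    have hA' : trv p' ((s ^ 2 - 1) • χ) hA0 ∈ M := by
      convert mul_mem hT' (inv_mem (mul_mem hBM (mul_mem hCM hT))) using 1
      rw [hprod, mul_inv_cancel_right]
    exact ⟨l₂, l'', hl₂, join_of_one hD hM hm hl₂ hp'm hl₂u
      (fun i hi x hx => by rw [smul_dotProduct, hχo i hi x hx, smul_zero]) he
      (by rw [smul_dotProduct, χe, smul_eq_mul, mul_one]; exact sub_ne_zero.2 hs1) hA'⟩
  exact specialLinear_le_of_centres fun v => centres_of_join hD hM hm (fun p q hpq => join_all hD hM hm hlj hJ hpq) v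

/-- maximality -/
theorem maximal [Fintype F] (hq : 4 ≤ Fintype.card F) (D : Fin 2 → Submodule F (Fin 4 → F))
    (hD : Cfsg.Geo.IsMDecomposition 2 D) :
    Cfsg.Geo.IsMaximalIn (Cfsg.Geo.specialLinear (Fin 4) F)
      (Cfsg.Geo.decompositionStabilizer D ⊓ Cfsg.Geo.specialLinear (Fin 4) F) := by
  classical
  refine isMaximalIn_of inf_le_right (fun hle => ?_) fun N hN hNK g hgN hg => ?_
  · let i₀ : Fin 2 := 0
    let j₀ : Fin 2 := 1
    have hij : i₀ ≠ j₀ := by decide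
    let k₀ : Fin 2 := ⟨0, hD.pos⟩
    set a := blockBasis hD ⟨i₀, k₀⟩
    set b := blockBasis hD ⟨j₀, k₀⟩
    have ha0 : a ≠ 0 := (blockBasis hD).ne_zero _
    have hb0 : b ≠ 0 := (blockBasis hD).ne_zero _
    obtain ⟨ψ, -, hψb, hψo⟩ := exists_row_in hD (v := b) (blockBasis_mem hD j₀ k₀) bot_le (by simpa using hb0)
    have hψa : ψ ⬝ᵥ a = 0 := hψo i₀ hij a (blockBasis_mem hD i₀ k₀)
    obtain ⟨σ, hσ⟩ := (hle (trv_mem_SL a ψ hψa)).1
    have hmem : (trv a ψ hψa : Matrix (Fin 4) (Fin 4) F) *ᵥ b ∈ D (σ j₀) := by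
      rw [← hσ j₀]; exact ⟨b, blockBasis_mem hD j₀ k₀, Matrix.toLin'_apply _ _⟩
    rw [trv_mulVec, hψb, one_smul] at hmem
    have hA := blockBasis_mem hD i₀ k₀
    have hB := blockBasis_mem hD j₀ k₀
    rcases eq_or_ne (σ j₀) i₀ with e | e
    · have := pr_other hD (l := j₀) hij.symm (e ▸ hmem)
      rw [map_add, pr_self hD hB, pr_other hD hij.symm hA, add_zero] at this
      exact hb0 this
    · have := pr_other hD (l := i₀) e.symm hmem
      rw [map_add, pr_self hD hA, pr_other hD hij hB, zero_add] at this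
      exact ha0 this
  · have hgs : g ∉ Cfsg.Geo.decompositionStabilizer D := fun h => hg ⟨h, hNK hgN⟩
    have hperm : PermM D N := fun x hx ⟨σ, hσ⟩ => hN ⟨stab_of_maps hD hσ, hx⟩
    obtain ⟨s, hs⟩ : ∃ s : F, s ∉ ({0, 1, -1} : Finset F) := by
      by_contra hc
      push Not at hc
      have := (Finset.card_le_card (fun x _ => hc x : (Finset.univ : Finset F) ⊆ {0, 1, -1})).trans
        Finset.card_le_three
      rw [Finset.card_univ] at this
      omega
    simp only [Finset.mem_insert, Finset.mem_singleton, not_or] at hs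
    exact sl_le hD hperm hs.1 (fun h => (sq_eq_one_iff.1 h).elim hs.2.1 hs.2.2) hgN hgs

end Cfsg.Agent.Forms.Max.SL4.Planes
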