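import Cfsg.Agent.Lib.Forms.Max.SympInLinear

/-!
# Symplectic similitudes are maximal in the special linear group of degree four
-/

set_option autoImplicit false

namespace Cfsg.Agent.Forms.Max.SL4.Symp

/-- the symplectic type -/
theorem maximal {F : Type*} [Field F] [Fintype F] (f : (Fin 4 → F) → (Fin 4 → F) → F)
    (hf : Cfsg.Geo.IsSymplecticForm f) :
    Cfsg.Geo.IsMaximalIn (Cfsg.Geo.specialLinear (Fin 4) F)
      (Cfsg.Geo.similarityGroup f ⊓ Cfsg.Geo.specialLinear (Fin 4) F) := by
  classical
  let B : LinearMap.BilinForm F (Fin 4 → F) := LinearMap.mk₂ F f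
    hf.bilinear.add_left hf.bilinear.smul_left hf.bilinear.add_right hf.bilinear.smul_right
  have hn' : B.Nondegenerate :=
    ⟨fun v h => by
      by_contra h0
      obtain ⟨-, x, hx⟩ := hf.nondegenerate v h0
      exact hx (h x),
     fun v h => by
      by_contra h0
      obtain ⟨⟨x, hx⟩, -⟩ := hf.nondegenerate v h0
      exact hx (h x)⟩
  refine Forms.Max.symp_similarity_maximal (B := B) (fun v => hf.alternating v) hn'
    (by rw [Fintype.card_fin]; omega) _ inf_le_right fun g => ?_
  exact ⟨fun h => ⟨h.2, h.1⟩, fun h => ⟨h.2, h.1⟩⟩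

end Cfsg.Agent.Forms.Max.SL4.Symp
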