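import Cfsg.Agent.Lib.Forms.Max.SL4.Klein
import Cfsg.Agent.Lib.Forms.Max.UnitFrame.Vectors
import Cfsg.Agent.Lib.Forms.Max.Linear
import Cfsg.Agent.SympType4.Scal

/-!
# Normalisers of symplectic-type groups in the special linear group of degree four

The four generators are brought to standard form; the six common eigenvectors on the exterior square form an
orthogonal frame with common value one, and the normaliser is the preimage of the stabiliser of that frame.
-/

set_option autoImplicit false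
set_option linter.unusedSectionVars false

namespace Cfsg.Agent.Forms.Max.SL4.SympType

open Matrix Cfsg.Agent.SympType4.Scal Cfsg.Agent.Forms.PlusStd Cfsg.Agent.Classical.Orth Cfsg.Agent.Forms.Max.UnitFrame

variable {F : Type*} [Field F]

/-- the standard generators -/
def std : Fin 4 → Q4 F :=
  ![!![1, 0, 0, 0; 0, 1, 0, 0; 0, 0, -1, 0; 0, 0, 0, -1], !![0, 0, 1, 0; 0, 0, 0, 1; 1, 0, 0, 0; 0, 1, 0, 0],
    !![1, 0, 0, 0; 0, -1, 0, 0; 0, 0, 1, 0; 0, 0, 0, -1], !![0, 1, 0, 0; 1, 0, 0, 0; 0, 0, 0, 1; 0, 0, 1, 0]]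

theorem std_sq (j : Fin 4) : (std j : Q4 F) * std j = 1 := by
  fin_cases j <;>
  · ext a b
    fin_cases a <;> fin_cases b <;> simp [std, Matrix.mul_apply, Fin.sum_univ_four]

theorem std_det (j : Fin 4) : (std j : Q4 F).det = 1 := by
  fin_cases j <;> simp [std, Matrix.det_succ_row_zero, Fin.sum_univ_succ, Fin.succAbove]

theorem pat_surj : ∀ f : Fin 4 → Bool, ∃ b, ∀ j, pat b j = f j := by decide

variable {R : Subgroup (H4 F)} {i : F} {a : Fin 4 → Q4 F}

/-- four generators are conjugate to the standard ones -/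
theorem exists_std_conj (h2 : (2 : F) ≠ 0) (hG : Gens R a) :
    ∃ P : H4 F, ∀ j, a j * (P : Q4 F) = (P : Q4 F) * std j := by
  obtain ⟨⟨h01, h23⟩, h02, h03, h12, h13⟩ := And.intro hG.anti hG.com
  have hQ : (1 + a 0) * (1 + a 2) ≠ 0 := fun h0 => by
    have h1 : a 1 * ((1 + a 0) * (1 + a 2)) = (1 - a 0) * (1 + a 2) * a 1 := by
      simp only [mul_add, add_mul, sub_mul, mul_one, one_mul, ← mul_assoc, anti_symm h01, h12, neg_mul]
      simp only [mul_assoc, h12]
      abel
    rw [h0, mul_zero] at h1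
    have h3 : (1 - a 0) * (1 + a 2) = 0 := by
      have := congrArg (fun Z => Z * a 1) h1.symm
      simpa [mul_assoc, hG.sq 1] using this
    have h4 : a 2 = -1 := by
      have h5 : (2 : F) • (1 + a 2) = 0 := by
        rw [two_smul]
        calc (1 + a 2) + (1 + a 2) = (1 + a 0) * (1 + a 2) + (1 - a 0) * (1 + a 2) := by
              simp only [add_mul, sub_mul, one_mul]; abel
          _ = 0 := by rw [h0, h3, add_zero]
      exact eq_neg_of_add_eq_zero_right ((smul_eq_zero.1 h5).resolve_left h2)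
    rw [h4] at h23
    simp only [neg_one_mul, mul_neg, mul_one, neg_neg] at h23
    have h6 : (2 : F) • a 3 = 0 := by rw [two_smul]; nth_rewrite 1 [← h23]; exact neg_add_cancel _
    have h7 := hG.sq 3
    rw [(smul_eq_zero.1 h6).resolve_left h2, mul_zero] at h7
    exact zero_ne_one h7
  obtain ⟨r, c, hrc⟩ : ∃ r c, ((1 + a 0) * (1 + a 2)) r c ≠ 0 := by
    by_contra hc
    push Not at hc
    exact hQ (Matrix.ext fun r c => hc r c)
  set v : Fin 4 → F := fun k => ((1 + a 0) * (1 + a 2)) k c with hv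
  have hv0 : v ≠ 0 := fun e => hrc (congrFun e r)
  have hvQ : v = ((1 + a 0) * (1 + a 2)) *ᵥ Pi.single c 1 := by rw [Matrix.mulVec_single_one]; rfl
  have ha0 : a 0 *ᵥ v = v := by
    rw [hvQ, Matrix.mulVec_mulVec, ← mul_assoc, show a 0 * (1 + a 0) = 1 + a 0 by
      rw [mul_add, mul_one, hG.sq 0, add_comm]]
  have ha2 : a 2 *ᵥ v = v := by
    have hc' : (1 + a 0) * (1 + a 2) = (1 + a 2) * (1 + a 0) := by
      simp only [mul_add, add_mul, mul_one, one_mul, h02]
      abel
    rw [hvQ, Matrix.mulVec_mulVec, hc', ← mul_assoc, show a 2 * (1 + a 2) = 1 + a 2 by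
      rw [mul_add, mul_one, hG.sq 2, add_comm]]
  set col : Fin 4 → Fin 4 → F := ![v, a 3 *ᵥ v, a 1 *ᵥ v, a 1 *ᵥ (a 3 *ᵥ v)] with hcol
  let sg : Fin 4 → Fin 4 → F := ![![1, 1, -1, -1], ![0, 0, 0, 0], ![1, -1, 1, -1], ![0, 0, 0, 0]]
  have e0 : ∀ k, a 0 *ᵥ col k = sg 0 k • col k := by
    intro k
    fin_cases k
    · simp [hcol, sg, ha0]
    · simp [hcol, sg, Matrix.mulVec_mulVec, h03]
      rw [← Matrix.mulVec_mulVec, ha0]
    · simp [hcol, sg, Matrix.mulVec_mulVec, h01, Matrix.neg_mulVec]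
      rw [← Matrix.mulVec_mulVec, ha0]
    · simp [hcol, sg, Matrix.mulVec_mulVec, ← mul_assoc, h01, Matrix.neg_mulVec]
      rw [mul_assoc, h03, ← mul_assoc, ← Matrix.mulVec_mulVec, ha0]
  have e2 : ∀ k, a 2 *ᵥ col k = sg 2 k • col k := by
    intro k
    fin_cases k
    · simp [hcol, sg, ha2]
    · simp [hcol, sg, Matrix.mulVec_mulVec, h23, Matrix.neg_mulVec]
      rw [← Matrix.mulVec_mulVec, ha2]
    · simp [hcol, sg, Matrix.mulVec_mulVec, ← h12]
      rw [← Matrix.mulVec_mulVec, ha2]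
    · simp [hcol, sg, Matrix.mulVec_mulVec, ← mul_assoc, ← h12]
      rw [mul_assoc, h23, mul_neg, ← mul_assoc, Matrix.neg_mulVec, ← Matrix.mulVec_mulVec, ha2]
  have hne : ∀ k, col k ≠ 0 := by
    have hinj : ∀ j (x : Fin 4 → F), x ≠ 0 → a j *ᵥ x ≠ 0 := fun j x hx e => hx (by
      rw [← Matrix.one_mulVec x, ← hG.sq j, ← Matrix.mulVec_mulVec, e, Matrix.mulVec_zero])
    intro k
    fin_cases k
    · exact hv0
    · exact hinj 3 v hv0
    · exact hinj 1 v hv0
    · exact hinj 1 _ (hinj 3 v hv0)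
  have hli : LinearIndependent F col := by
    rw [Fintype.linearIndependent_iff]
    intro g hg
    have A0 : a 0 *ᵥ (∑ k, g k • col k) = 0 := by rw [hg, Matrix.mulVec_zero]
    have A2 : a 2 *ᵥ (∑ k, g k • col k) = 0 := by rw [hg, Matrix.mulVec_zero]
    simp only [Fin.sum_univ_four, Matrix.mulVec_add, Matrix.mulVec_smul, e0, e2, smul_smul] at A0 A2
    have A02 : a 0 *ᵥ ((g 0 * sg 2 0) • col 0 + (g 1 * sg 2 1) • col 1 + (g 2 * sg 2 2) • col 2 +
        (g 3 * sg 2 3) • col 3) = 0 := by rw [A2, Matrix.mulVec_zero]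
    simp only [Matrix.mulVec_add, Matrix.mulVec_smul, e0, smul_smul] at A02
    simp only [Fin.sum_univ_four] at hg
    simp only [sg, Matrix.cons_val_zero, Matrix.cons_val_one, Matrix.cons_val_two, Matrix.cons_val_three,
      Matrix.head_cons, Matrix.tail_cons, mul_one, mul_neg, one_mul, neg_mul, neg_neg] at A0 A2 A02
    have h4 : (4 : F) ≠ 0 := by rw [show (4 : F) = 2 * 2 by norm_num]; exact mul_ne_zero h2 h2
    have key : ∀ k, (4 * g k) • col k = 0 := by
      intro k
      obtain rfl | rfl | rfl | rfl : k = 0 ∨ k = 1 ∨ k = 2 ∨ k = 3 := by revert k; decide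
      · calc _ = (g 0 • col 0 + g 1 • col 1 + g 2 • col 2 + g 3 • col 3) +
              (g 0 • col 0 + g 1 • col 1 + -g 2 • col 2 + -g 3 • col 3) +
              (g 0 • col 0 + -g 1 • col 1 + g 2 • col 2 + -g 3 • col 3) +
              (g 0 • col 0 + -g 1 • col 1 + -g 2 • col 2 + g 3 • col 3) := by module
          _ = 0 := by rw [hg, A0, A2, A02]; simp
      · calc _ = (g 0 • col 0 + g 1 • col 1 + g 2 • col 2 + g 3 • col 3) +
              (g 0 • col 0 + g 1 • col 1 + -g 2 • col 2 + -g 3 • col 3) -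
              (g 0 • col 0 + -g 1 • col 1 + g 2 • col 2 + -g 3 • col 3) -
              (g 0 • col 0 + -g 1 • col 1 + -g 2 • col 2 + g 3 • col 3) := by module
          _ = 0 := by rw [hg, A0, A2, A02]; simp
      · calc _ = (g 0 • col 0 + g 1 • col 1 + g 2 • col 2 + g 3 • col 3) -
              (g 0 • col 0 + g 1 • col 1 + -g 2 • col 2 + -g 3 • col 3) +
              (g 0 • col 0 + -g 1 • col 1 + g 2 • col 2 + -g 3 • col 3) -
              (g 0 • col 0 + -g 1 • col 1 + -g 2 • col 2 + g 3 • col 3) := by module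
          _ = 0 := by rw [hg, A0, A2, A02]; simp
      · calc _ = (g 0 • col 0 + g 1 • col 1 + g 2 • col 2 + g 3 • col 3) -
              (g 0 • col 0 + g 1 • col 1 + -g 2 • col 2 + -g 3 • col 3) -
              (g 0 • col 0 + -g 1 • col 1 + g 2 • col 2 + -g 3 • col 3) +
              (g 0 • col 0 + -g 1 • col 1 + -g 2 • col 2 + g 3 • col 3) := by module
          _ = 0 := by rw [hg, A0, A2, A02]; simp
    exact fun k => (mul_eq_zero.1 ((smul_eq_zero.1 (key k)).resolve_right (hne k))).resolve_left h4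
  set P : Q4 F := Matrix.of fun r k => col k r with hP
  have hPu : IsUnit P := Matrix.linearIndependent_cols_iff_isUnit.1 hli
  refine ⟨hPu.unit, fun j => ?_⟩
  rw [IsUnit.unit_spec]
  refine Matrix.ext_of_mulVec_single fun k => ?_
  have hPk : ∀ k, P *ᵥ Pi.single k 1 = col k := fun k => by rw [Matrix.mulVec_single_one]; rfl
  have hs : ∀ j k, (std j : Q4 F) *ᵥ Pi.single k 1 = fun r => std j r k := fun j k => by
    rw [Matrix.mulVec_single_one]; rfl
  rw [← Matrix.mulVec_mulVec, hPk, ← Matrix.mulVec_mulVec, hs]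
  have hlin : ∀ x : Fin 4 → F, P *ᵥ x = x 0 • col 0 + x 1 • col 1 + x 2 • col 2 + x 3 • col 3 := fun x => by
    funext r
    simp only [Matrix.mulVec, dotProduct, Fin.sum_univ_four, hP, Matrix.of_apply, Pi.add_apply, Pi.smul_apply,
      smul_eq_mul]
    ring
  rw [hlin]
  obtain rfl | rfl | rfl | rfl : j = 0 ∨ j = 1 ∨ j = 2 ∨ j = 3 := by revert j; decide
  · rw [e0]; fin_cases k <;> simp [std, sg]
  · fin_cases k <;> simp [std, hcol, Matrix.mulVec_mulVec, hG.sq 1, ← mul_assoc]
  · rw [e2]; fin_cases k <;> simp [std, sg]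
  · fin_cases k <;> simp [std, hcol, Matrix.mulVec_mulVec, hG.sq 3, ← mul_assoc, ← h13]
    rw [mul_assoc, hG.sq 3, mul_one]

theorem mono_transfer {P : H4 F} (hP : ∀ j, a j * (P : Q4 F) = (P : Q4 F) * std j)
    (b : Bool × Bool × Bool × Bool) : mono a b * (P : Q4 F) = (P : Q4 F) * mono std b := by
  have h : ∀ (c : Bool) j, (bif c then a j else 1) * (P : Q4 F) = (P : Q4 F) * (bif c then std j else 1) := by
    intro c j
    cases c
    · simp
    · exact hP j
  simp only [mono, mul_assoc]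
  rw [h, ← mul_assoc (bif b.2.2.1 then a 2 else 1), h, mul_assoc, ← mul_assoc (bif b.2.1 then a 1 else 1), h,
    mul_assoc, ← mul_assoc (bif b.1 then a 0 else 1), h, mul_assoc]

/-! ### The frame -/

/-- the six vectors, in coordinates of the exterior square -/
def fvec (i : F) : Fin 6 → Fin 6 → F :=
  ![![1, 0, 0, 0, 0, 1], ![i, 0, 0, 0, 0, -i], ![0, 1, 0, 0, -1, 0], ![0, i, 0, 0, i, 0], ![0, 0, 1, 1, 0, 0],
    ![0, 0, i, -i, 0, 0]]

/-- the signs of the generators on the frame -/
def sgn : Fin 4 → Fin 6 → F :=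
  ![![1, 1, -1, -1, -1, -1], ![1, -1, -1, -1, -1, 1], ![-1, -1, 1, 1, -1, -1], ![-1, -1, -1, 1, 1, -1]]

set_option maxHeartbeats 2000000 in
theorem wedge_std (j : Fin 4) (k : Fin 6) :
    Classical.Wedge.wedge (std j : Q4 F) (fvec i k) = (sgn j k : F) • fvec i k := by
  fin_cases j <;> fin_cases k <;>
  · funext l
    fin_cases l <;>
      simp [Classical.Wedge.wedge, Classical.Wedge.coords, Classical.Wedge.altMat, std, fvec, sgn, Matrix.mul_apply,
        Fin.sum_univ_four]

/-- the frame -/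
def frame (i : F) (k : Fin 6) : Fin 3 ⊕ Fin 3 → F := Klein.klein.symm (fvec i k)

theorem frame_value (hi : i * i = -1) (k : Fin 6) : plusQ F 3 (frame i k) = 1 := by
  rw [plusQ_apply]
  fin_cases k <;>
    simp [frame, Klein.klein, fvec, Cfsg.quadFormPlus, Fin.sum_univ_three] <;> linear_combination -hi

theorem frame_orth (k l : Fin 6) (h : k ≠ l) : QuadraticMap.polar (plusQ F 3) (frame i k) (frame i l) = 0 := by
  rw [plusQ_polar]
  revert h
  fin_cases k <;> fin_cases l <;> simp [frame, Klein.klein, fvec, Fin.sum_univ_three] <;> ring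

theorem frame_span (h2 : (2 : F) ≠ 0) (hi : i * i = -1) :
    Submodule.span F (Set.range (frame i)) = ⊤ := by
  refine eq_top_iff.2 fun v _ => ?_
  have e : v = ((v (.inl 0) + v (.inr 0)) / 2) • frame i 0 + ((-i) * (v (.inl 0) - v (.inr 0)) / 2) • frame i 1 +
      ((v (.inl 1) + v (.inr 1)) / 2) • frame i 2 + ((-i) * (v (.inl 1) - v (.inr 1)) / 2) • frame i 3 +
      ((v (.inl 2) + v (.inr 2)) / 2) • frame i 4 + ((-i) * (v (.inl 2) - v (.inr 2)) / 2) • frame i 5 := by
    funext z
    rcases z with z | z <;> fin_cases z <;> simp [frame, Klein.klein, fvec] <;> field_simp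
    all_goals first
      | linear_combination (v (.inl 0) - v (.inr 0)) * hi
      | linear_combination -(v (.inl 0) - v (.inr 0)) * hi
      | linear_combination (v (.inl 1) - v (.inr 1)) * hi
      | linear_combination -(v (.inl 1) - v (.inr 1)) * hi
      | linear_combination (v (.inl 2) - v (.inr 2)) * hi
      | linear_combination -(v (.inl 2) - v (.inr 2)) * hi
  rw [e]
  have hm : ∀ (c : F) k, c • frame i k ∈ Submodule.span F (Set.range (frame i)) := fun c k =>
    Submodule.smul_mem _ _ (Submodule.subset_span ⟨k, rfl⟩)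
  exact add_mem (add_mem (add_mem (add_mem (add_mem (hm _ _) (hm _ _)) (hm _ _)) (hm _ _)) (hm _ _)) (hm _ _)

end Cfsg.Agent.Forms.Max.SL4.SympType
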