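import Cfsg.Agent.SympType4.Scal

/-!
# The order of an absolutely irreducible group of symplectic type of degree four with centre of order four

Averaging over the group shows that it spans all matrices; non-central members have trace zero, so different
cosets of the centre are independent.
-/

set_option autoImplicit false
set_option linter.unusedSectionVars false

namespace Cfsg.Agent.Forms.Max.SL4.SympType

open Matrix Cfsg.Agent.SympType4.Scal

variable {F : Type*} [Field F]

/-- scalar commutant forces a finite group of invertible order to span all matrices -/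
theorem span_group_eq_top {n : ℕ} (R : Subgroup (GL (Fin n) F)) [Fintype R] (hn : (n : F) ≠ 0)
    (hR : (Fintype.card R : F) ≠ 0)
    (hscal : ∀ X : Matrix (Fin n) (Fin n) F, (∀ g : R, X * ((g : GL (Fin n) F) : Matrix (Fin n) (Fin n) F) =
      ((g : GL (Fin n) F) : Matrix (Fin n) (Fin n) F) * X) → ∃ c : F, X = c • 1) :
    Submodule.span F (Set.range fun g : R => ((g : GL (Fin n) F) : Matrix (Fin n) (Fin n) F)) = ⊤ := by
  classical
  let φ : R →* Matrix (Fin n) (Fin n) F := (Units.coeHom _).comp R.subtype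
  show Submodule.span F (Set.range φ) = ⊤
  have hinv : ∀ g : R, φ g⁻¹ * φ g = 1 := fun g => by rw [← map_mul, inv_mul_cancel, map_one]
  have hav : ∀ M : Matrix (Fin n) (Fin n) F,
      ∑ g : R, φ g * M * φ g⁻¹ = ((Fintype.card R : F) * M.trace / n) • 1 := by
    intro M
    obtain ⟨c, hc⟩ := hscal (∑ g : R, φ g * M * φ g⁻¹) fun h => by
      show _ * φ h = φ h * _
      rw [Finset.sum_mul, Finset.mul_sum]
      refine (Fintype.sum_equiv (Equiv.mulLeft h) _ _ fun g => ?_).symm
      rw [Equiv.coe_mulLeft, map_mul, _root_.mul_inv_rev, map_mul]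
      simp only [mul_assoc]
      rw [hinv h, mul_one]
    have ht := congrArg Matrix.trace hc
    rw [Matrix.trace_sum, Matrix.trace_smul, Matrix.trace_one, Fintype.card_fin, smul_eq_mul] at ht
    have hone : ∀ g : R, (φ g * M * φ g⁻¹).trace = M.trace := fun g => by
      rw [Matrix.trace_mul_comm, ← mul_assoc, hinv g, one_mul]
    rw [Finset.sum_congr rfl (fun g _ => hone g), Finset.sum_const, Finset.card_univ, nsmul_eq_mul] at ht
    rw [hc, ht, mul_div_cancel_right₀ _ hn]
  refine eq_top_iff.2 fun Y _ => ?_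
  have hY : ∑ g : R, (φ g⁻¹ * Y).trace • φ g = ((Fintype.card R : F) / n) • Y := by
    ext r k
    have hrl : ∀ l, ∀ c, (∑ g : R, φ g r k * φ g⁻¹ l c) =
        if r = c then (Fintype.card R : F) * (if k = l then 1 else 0) / n else 0 := by
      intro l c
      have h := congrFun (congrFun (hav (Matrix.single k l 1)) r) c
      rw [Matrix.sum_apply] at h
      simp only [Matrix.mul_apply, Matrix.single_apply, Matrix.smul_apply, Matrix.one_apply, smul_eq_mul,
        mul_ite, mul_one, mul_zero, Finset.sum_ite_eq, Finset.mem_univ, if_true, ite_and, Finset.sum_ite_irrel,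
        Finset.sum_const_zero, ite_mul, zero_mul] at h
      rw [h]
      rcases eq_or_ne k l with rfl | hkl
      · simp [Matrix.trace_single_eq_same]
      · simp [Matrix.trace_single_eq_of_ne _ _ _ hkl, hkl]
    rw [Matrix.sum_apply, Matrix.smul_apply, smul_eq_mul]
    simp only [Matrix.smul_apply, smul_eq_mul, Matrix.trace, Matrix.diag, Matrix.mul_apply, Finset.sum_mul]
    rw [Finset.sum_comm, Finset.sum_congr rfl fun l _ => Finset.sum_comm]
    rw [Finset.sum_congr rfl fun l _ => Finset.sum_congr rfl fun c _ => show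
      (∑ g : R, φ g⁻¹ l c * Y c l * φ g r k) = Y c l * ∑ g : R, φ g r k * φ g⁻¹ l c by
        rw [Finset.mul_sum]; exact Finset.sum_congr rfl fun g _ => by ring]
    simp only [hrl, mul_ite, mul_zero, Finset.sum_ite_eq, Finset.mem_univ, if_true, mul_one, ite_div, zero_div]
    ring
  have h0 : (Fintype.card R : F) / n ≠ 0 := div_ne_zero hR hn
  rw [← inv_smul_smul₀ h0 Y, ← hY]
  exact Submodule.smul_mem _ _ (Submodule.sum_mem _ fun g _ =>
    Submodule.smul_mem _ _ (Submodule.subset_span ⟨g, rfl⟩))

variable {R : Subgroup (H4 F)}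

/-- the order -/
theorem card_eq [Finite F] (h2 : (2 : F) ≠ 0) (hRs : Cfsg.Geo.IsSymplecticTypeGroup 2 R)
    (hRi : Cfsg.Geo.ActsAbsolutelyIrreducibly (Cfsg.Geo.matrixSet R))
    (hRZ : Nat.card (Subgroup.center R) = 4) : Nat.card R = 2 ^ 6 := by
  classical
  have hscal : ∀ X : Q4 F, (∀ Y, Mem R Y → X * Y = Y * X) → ∃ c : F, X = c • (1 : Q4 F) := fun X hX =>
    hRi.2 X (by rintro _ ⟨g, hg, rfl⟩; exact hX g ⟨g, hg, rfl⟩)
  have hcen : ∀ z : Subgroup.center R, ∃ c : F, (((z : R) : H4 F) : Q4 F) = c • (1 : Q4 F) := fun z =>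
    hscal _ fun Y ⟨g, hg, hY⟩ => by
      rw [← hY, ← Units.val_mul, ← Units.val_mul]
      exact congrArg (fun x : R => ((x : H4 F) : Q4 F)) (Subgroup.mem_center_iff.1 z.2 ⟨g, hg⟩).symm
  choose χ hχ using hcen
  have hχinj : Function.Injective χ := fun a b h =>
    Subtype.ext (Subtype.ext (Units.ext (by rw [hχ, hχ, h])))
  have h4 : ∀ a : R, a ^ 4 = 1 := fun a => by
    have h := Monoid.pow_exponent_eq_one a
    rwa [hRs.exponent_eq, show 2 * Nat.gcd 2 2 = 4 from rfl] at h
  have hχ4 : ∀ z, χ z ^ 4 = 1 := fun z => by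
    have h := congrArg (fun x : R => ((x : H4 F) : Q4 F)) (h4 (z : R))
    simp only [Subgroup.coe_pow, Units.val_pow_eq_pow_val, hχ, Subgroup.coe_one, Units.val_one] at h
    rw [smul_pow, one_pow] at h
    exact smul_one_inj (h.trans (one_smul F (1 : Q4 F)).symm)
  haveI : Finite (Subgroup.center R) := Nat.finite_of_card_ne_zero (by rw [hRZ]; norm_num)
  haveI : Finite R := Finite.of_injective (fun g : R => (g : H4 F)) Subtype.val_injective
  haveI : Fintype (Subgroup.center R) := Fintype.ofFinite _
  obtain ⟨z, hz⟩ : ∃ z, χ z * χ z = -1 := by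
    by_contra hcon
    push Not at hcon
    have hsub : Finset.univ.image χ ⊆ ({1, -1} : Finset F) := fun c hc => by
      obtain ⟨z, -, rfl⟩ := Finset.mem_image.1 hc
      have h := hχ4 z
      rcases mul_self_eq_one_iff.1 (show (χ z * χ z) * (χ z * χ z) = 1 by linear_combination h) with h' | h'
      · rcases mul_self_eq_one_iff.1 h' with e | e <;> simp [e]
      · exact absurd h' (hcon z)
    have h1 := Finset.card_le_card hsub
    rw [Finset.card_image_of_injective _ hχinj, Finset.card_univ, ← Nat.card_eq_fintype_card, hRZ] at h1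
    exact absurd (h1.trans Finset.card_le_two) (by norm_num)
  have hval : (((z * z : Subgroup.center R) : R) : H4 F) = -1 := Units.ext (by
    rw [Subgroup.coe_mul, Subgroup.coe_mul, Units.val_mul, hχ, Matrix.smul_mul, Matrix.mul_smul, mul_one, smul_smul,
      hz, neg_one_smul, Units.val_neg, Units.val_one])
  have hzo : orderOf ((z * z : Subgroup.center R) : R) = 2 := by
    refine orderOf_eq_prime (Subtype.ext ?_) fun e => one_ne_neg h2 ?_
    · rw [Subgroup.coe_pow, hval, neg_one_sq, Subgroup.coe_one]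
    · rw [e, Subgroup.coe_one] at hval
      exact congrArg (fun x : H4 F => (x : Q4 F)) hval
  have hfacts := InvChar.Symplectic.commutator_facts (T := R) ⟨hRs.pGroup, hRs.cyclic_of_characteristic⟩ h4
    (z * z).2 hzo
  have hcomm : ∀ g ∈ R, ∀ h ∈ R, g * h = h * g ∨ g * h = -(h * g) := fun g hg h hh => by
    rcases hfacts ⟨g, hg⟩ ⟨h, hh⟩ with e | e
    · have e' := congrArg (fun x : R => (x : H4 F)) e
      simp only [Subgroup.coe_mul, Subgroup.coe_inv, Subgroup.coe_one] at e'
      left
      calc g * h = (g * h * g⁻¹ * h⁻¹) * (h * g) := by group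
        _ = h * g := by rw [e', one_mul]
    · have e' := congrArg (fun x : R => (x : H4 F)) e
      rw [hval] at e'
      simp only [Subgroup.coe_mul, Subgroup.coe_inv] at e'
      right
      calc g * h = (g * h * g⁻¹ * h⁻¹) * (h * g) := by group
        _ = -(h * g) := by rw [e', neg_one_mul]
  haveI : Fintype R := Fintype.ofFinite R
  let φ : R → Q4 F := fun g => ((g : H4 F) : Q4 F)
  have h4' : (4 : F) ≠ 0 := by rw [show (4 : F) = 2 * 2 by norm_num]; exact mul_ne_zero h2 h2
  have hR0 : (Fintype.card R : F) ≠ 0 := by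
    obtain ⟨k, hk⟩ := IsPGroup.iff_card.1 hRs.pGroup
    rw [← Nat.card_eq_fintype_card, hk, Nat.cast_pow]
    exact pow_ne_zero _ (by exact_mod_cast h2)
  have hspan : Submodule.span F (Set.range φ) = ⊤ :=
    span_group_eq_top R (by exact_mod_cast h4') hR0 fun X hX =>
      hscal X fun Y ⟨g, hg, hY⟩ => by rw [← hY]; exact hX ⟨g, hg⟩
  have htr : ∀ g : R, g ∉ Subgroup.center R → (φ g).trace = 0 := fun g hg => by
    obtain ⟨h, hh⟩ : ∃ h : R, h * g ≠ g * h := by
      by_contra hc
      push Not at hc
      exact hg (Subgroup.mem_center_iff.2 hc)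
    rcases hcomm (g : H4 F) g.2 (h : H4 F) h.2 with e | e
    · exact absurd (Subtype.ext e.symm) hh
    · refine trace_anti h2 (h : H4 F).isUnit ?_
      show ((g : H4 F) : Q4 F) * ((h : H4 F) : Q4 F) = _
      rw [← Units.val_mul, e, Units.val_neg, Units.val_mul]
  let f : R ⧸ Subgroup.center R → Q4 F := fun q => φ q.out
  haveI : Fintype (R ⧸ Subgroup.center R) := Fintype.ofFinite _
  have hli : LinearIndependent F f := by
    rw [Fintype.linearIndependent_iff]
    intro c hc q
    have h1 := congrArg (fun X => Matrix.trace (φ (q.out)⁻¹ * X)) hc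
    simp only [Finset.mul_sum, Matrix.trace_sum, Matrix.mul_smul, Matrix.trace_smul, mul_zero,
      Matrix.trace_zero, smul_eq_mul] at h1
    rw [Finset.sum_eq_single q (fun q' _ hq' => ?_) (by simp)] at h1
    · refine (mul_eq_zero.1 h1).resolve_right ?_
      simp only [f, φ, Subgroup.coe_inv, ← Units.val_mul, inv_mul_cancel, Units.val_one, Matrix.trace_one,
        Fintype.card_fin]
      exact_mod_cast h4'
    · refine mul_eq_zero_of_right _ ?_
      have h2 : φ (q.out)⁻¹ * f q' = φ ((q.out)⁻¹ * q'.out) := by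
        simp only [f, φ, Subgroup.coe_mul, Units.val_mul]
      rw [h2]
      refine htr _ fun hz => hq' ?_
      rw [← QuotientGroup.out_eq' q, ← QuotientGroup.out_eq' q']
      exact (QuotientGroup.eq.2 hz).symm
  have htop : Submodule.span F (Set.range f) = ⊤ := by
    refine eq_top_iff.2 (hspan ▸ Submodule.span_le.2 ?_)
    rintro _ ⟨g, rfl⟩
    have hmem : (QuotientGroup.mk g : R ⧸ Subgroup.center R).out⁻¹ * g ∈ Subgroup.center R :=
      QuotientGroup.eq.1 (QuotientGroup.out_eq' _)
    have e : φ g = χ ⟨_, hmem⟩ • f (QuotientGroup.mk g) := by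
      have h3 : φ ((QuotientGroup.mk g : R ⧸ Subgroup.center R).out⁻¹ * g) = χ ⟨_, hmem⟩ • (1 : Q4 F) := hχ ⟨_, hmem⟩
      calc φ g = φ ((QuotientGroup.mk g : R ⧸ Subgroup.center R).out *
            ((QuotientGroup.mk g : R ⧸ Subgroup.center R).out⁻¹ * g)) := by rw [mul_inv_cancel_left]
        _ = φ (QuotientGroup.mk g : R ⧸ Subgroup.center R).out *
            φ ((QuotientGroup.mk g : R ⧸ Subgroup.center R).out⁻¹ * g) := by
          simp only [φ, Subgroup.coe_mul, Units.val_mul]
        _ = _ := by rw [h3, Matrix.mul_smul, mul_one]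
    rw [e]
    exact Submodule.smul_mem _ _ (Submodule.subset_span ⟨_, rfl⟩)
  have hcard := Module.finrank_eq_card_basis (Module.Basis.mk hli htop.ge)
  rw [Module.finrank_matrix, Fintype.card_fin, Module.finrank_self] at hcard
  rw [Subgroup.card_eq_card_quotient_mul_card_subgroup (Subgroup.center R), hRZ, Nat.card_eq_fintype_card,
    ← hcard]
  norm_num

end Cfsg.Agent.Forms.Max.SL4.SympType
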