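import Cfsg.Agent.Lib.Forms.Max.SL4.SympType
import Cfsg.Agent.Lib.Forms.Max.SL4.SympTypeCard
import Cfsg.Agent.Aschbacher.Lists.Proper

/-!
# Normalisers of symplectic-type groups: reduction to the frame stabiliser
-/

set_option autoImplicit false
set_option linter.unusedSectionVars false

namespace Cfsg.Agent.Forms.Max.SL4.SympType

open Matrix Cfsg.Agent.SympType4.Scal Cfsg.Agent.Forms.PlusStd Cfsg.Agent.Forms.Reflections Cfsg.Agent.Classical.Orth Cfsg.Agent.Forms.Max.UnitFrame

variable {F : Type*} [Field F] [Fintype F] {R : Subgroup (H4 F)} {i : F} {a : Fin 4 → Q4 F}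

/-- the standard generators as elements of determinant one -/
def sgen (j : Fin 4) : SpecialLinearGroup (Fin 4) F := ⟨std j, std_det j⟩

theorem act_sgen (j : Fin 4) (k : Fin 6) :
    act (Klein.hom (sgen (F := F) j)) (frame i k) = (sgn j k : F) • frame i k := by
  rw [act_apply, Klein.hom_mulVec, frame, LinearEquiv.apply_symm_apply]
  show Klein.klein.symm (Classical.Wedge.wedge (std j) (fvec i k)) = _
  rw [wedge_std, map_smul]

/-- conjugation into the standard position -/
noncomputable def emb (P : H4 F) : SpecialLinearGroup (Fin 4) F →* H4 F :=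
  (MulAut.conj P).toMonoidHom.comp SpecialLinearGroup.toGL

theorem emb_val (P : H4 F) (x : SpecialLinearGroup (Fin 4) F) :
    (emb P x : Q4 F) = (P : Q4 F) * (x : Q4 F) * ((P⁻¹ : H4 F) : Q4 F) := rfl

theorem emb_det (P : H4 F) (x : SpecialLinearGroup (Fin 4) F) : (emb P x : Q4 F).det = 1 := by
  rw [emb_val, Matrix.det_mul, Matrix.det_mul, mul_comm, ← mul_assoc, ← Matrix.det_mul, ← Units.val_mul,
    inv_mul_cancel, Units.val_one, Matrix.det_one, one_mul]
  exact x.2

theorem exists_emb (P : H4 F) {g : H4 F} (hg : (g : Q4 F).det = 1) : ∃ x, emb P x = g := by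
  refine ⟨⟨((P⁻¹ * g * P : H4 F) : Q4 F), ?_⟩, Units.ext ?_⟩
  · rw [Units.val_mul, Units.val_mul, Matrix.det_mul, Matrix.det_mul, hg, mul_one, ← Matrix.det_mul, ← Units.val_mul,
      inv_mul_cancel, Units.val_one, Matrix.det_one]
  · show (P : Q4 F) * ((P⁻¹ * g * P : H4 F) : Q4 F) * ((P⁻¹ : H4 F) : Q4 F) = _
    rw [← Units.val_mul, ← Units.val_mul]
    congr 1
    group

variable {P : H4 F} (hP : ∀ j, a j * (P : Q4 F) = (P : Q4 F) * std j)
include hP

theorem emb_sgen (j : Fin 4) : (emb P (sgen j) : Q4 F) = a j := by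
  rw [emb_val]
  show (P : Q4 F) * std j * _ = _
  rw [← hP, mul_assoc, ← Units.val_mul, mul_inv_cancel, Units.val_one, mul_one]

/-- an element acting diagonally on the frame lies in the group -/
theorem mem_of_diag (D : Data R i) (hG : Gens R a) {y : SpecialLinearGroup (Fin 4) F}
    (hy : ∀ k, ∃ c : F, act (Klein.hom y) (frame i k) = c • frame i k) : Mem R (emb P y : Q4 F) := by
  have hc : ∀ j, (emb P y : Q4 F) * a j = a j * emb P y ∨ (emb P y : Q4 F) * a j = -(a j * emb P y) := by
    intro j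
    have h1 : Klein.hom (y * sgen j) = Klein.hom (sgen j * y) := by
      refine act_ext fun v => ?_
      have hv : v ∈ Submodule.span F (Set.range (frame i)) := by rw [frame_span D.two D.isq]; trivial
      induction hv using Submodule.span_induction with
      | mem w hw =>
        obtain ⟨k, rfl⟩ := hw
        obtain ⟨c, hck⟩ := hy k
        rw [map_mul, map_mul, act_mul, act_mul, act_sgen, map_smul, hck, map_smul, act_sgen, smul_comm]
      | zero => simp
      | add u w _ _ hu hw => rw [map_add, map_add, hu, hw]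
      | smul t u _ hu => rw [map_smul, map_smul, hu]
    have h2 : Klein.hom (y * sgen j * (sgen j * y)⁻¹) = 1 := by rw [map_mul, map_inv, h1, mul_inv_cancel]
    set z := y * sgen j * (sgen j * y)⁻¹ with hz
    have h3 : emb P y * emb P (sgen j) = emb P z * (emb P (sgen j) * emb P y) := by
      rw [← map_mul, ← map_mul, ← map_mul, hz, inv_mul_cancel_right]
    have h4 := congrArg (fun g : H4 F => (g : Q4 F)) h3
    simp only [Units.val_mul, emb_sgen hP] at h4
    rcases Klein.of_hom_eq_one h2 with e | e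
    · left
      rw [h4, emb_val P z, e, mul_one, ← Units.val_mul, mul_inv_cancel, Units.val_one, one_mul]
    · right
      rw [h4, emb_val P z, e, mul_neg, mul_one, neg_mul, ← Units.val_mul, mul_inv_cancel, Units.val_one,
        neg_mul, one_mul]
  classical
  obtain ⟨b, hb⟩ := pat_surj fun j => decide ((emb P y : Q4 F) * a j = a j * emb P y)
  obtain ⟨m, hm, hmv⟩ := hG.mono_mem b
  set A := (emb P y : Q4 F) with hA
  set X := A * ((m⁻¹ : H4 F) : Q4 F) with hX
  have hmm : ((m⁻¹ : H4 F) : Q4 F) * mono a b = 1 := by rw [← hmv, ← Units.val_mul, inv_mul_cancel, Units.val_one]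
  have hmm' : mono a b * ((m⁻¹ : H4 F) : Q4 F) = 1 := by rw [← hmv, ← Units.val_mul, mul_inv_cancel, Units.val_one]
  have hXa : ∀ j, X * a j = a j * X := by
    intro j
    have h := hG.comm_mono j b
    have hAm : A = X * mono a b := by rw [hX, mul_assoc, hmm, mul_one]
    rw [hb j] at h
    by_cases hd : A * a j = a j * A
    · simp only [hd, decide_true, cond_true] at h
      calc X * a j = X * (a j * mono a b) * ((m⁻¹ : H4 F) : Q4 F) := by
            rw [mul_assoc X, mul_assoc (a j), hmm', mul_one]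
        _ = A * a j * ((m⁻¹ : H4 F) : Q4 F) := by rw [h, ← mul_assoc, ← hAm]
        _ = a j * X := by rw [hd, mul_assoc]
    · simp only [hd, decide_false, cond_false] at h
      calc X * a j = X * (a j * mono a b) * ((m⁻¹ : H4 F) : Q4 F) := by
            rw [mul_assoc X, mul_assoc (a j), hmm', mul_one]
        _ = -(A * a j) * ((m⁻¹ : H4 F) : Q4 F) := by rw [h, mul_neg, ← mul_assoc, ← hAm]
        _ = a j * X := by rw [(hc j).resolve_left hd, neg_neg, mul_assoc]
  obtain ⟨c, hXc⟩ := D.scal X fun Y hY => by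
    obtain ⟨c', b', -, rfl⟩ := hG.cover D hY
    have h1 : ∀ (e : Bool) j, Commute X (bif e then a j else 1) := fun e j => by
      cases e
      · exact Commute.one_right X
      · exact hXa j
    exact ((((h1 _ 0).mul_right (h1 _ 1)).mul_right (h1 _ 2)).mul_right (h1 _ 3)).smul_right c'
  have hAc : A = c • mono a b := by
    rw [← one_mul (mono a b), ← Matrix.smul_mul, ← hXc, hX, mul_assoc, hmm, mul_one]
  have hdet : (mono a b).det = 1 := by
    have h := congrArg Matrix.det (mono_transfer hP b)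
    rw [Matrix.det_mul, Matrix.det_mul, mul_comm] at h
    have hu : (P : Q4 F).det ≠ 0 := ((Matrix.isUnit_iff_isUnit_det _).1 P.isUnit).ne_zero
    rw [mul_left_cancel₀ hu h]
    obtain ⟨b0, b1, b2, b3⟩ := b
    cases b0 <;> cases b1 <;> cases b2 <;> cases b3 <;> simp [mono, Matrix.det_mul, std_det]
  have h4 : c ^ 4 = 1 := by
    have h := congrArg Matrix.det hAc
    rw [hA, emb_det, Matrix.det_smul, hdet, mul_one, Fintype.card_fin] at h
    exact h.symm
  rw [hAc]
  exact D.smul_mem ((root_iff D.isq).2 (mul_self_eq_one_iff.1 (by linear_combination h4))) (hG.mono_mem b)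

/-- the preimage of the frame stabiliser normalises the group -/
theorem normalizer_of_mon (D : Data R i) (hG : Gens R a) (S : Setup (plusQ F 3) 6) (hSe : S.e = frame i)
    {x : SpecialLinearGroup (Fin 4) F} (hx : S.Mon (Klein.hom x)) :
    emb P x ∈ Cfsg.Geo.subgroupNormalizer R := by
  refine hG.normalizes D _ fun j => ?_
  have e : (emb P x : Q4 F) * a j * ((emb P x)⁻¹ : H4 F) = (emb P (x * sgen j * x⁻¹) : Q4 F) := by
    rw [map_mul, map_mul, map_inv, Units.val_mul, Units.val_mul, emb_sgen hP]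
  rw [e]
  refine mem_of_diag hP D hG fun k => ?_
  obtain ⟨l, c, hl⟩ := hx.inv k
  rw [hSe] at hl
  refine ⟨sgn j l, ?_⟩
  rw [map_mul, map_mul, map_inv, act_mul, act_mul, hl, map_smul, act_sgen, map_smul, map_smul, smul_comm,
    ← map_smul (act (Klein.hom x)) c, ← hl, ← act_mul, mul_inv_cancel, act_one]

omit hP

/-- maximality, given that the frame stabiliser is maximal -/
theorem maximal_of (p : ℕ) (hp : p.Prime) (hF : Fintype.card F = p) (hp4 : p % 4 = 1)
    (hR : Cfsg.Geo.IsLinearSymplecticTypeData 2 R)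
    (hsix : ∀ S : Setup (plusQ F 3) 6, S.M ≤ Cfsg.Omega F ⇑(plusQ F 3) → ∀ g ∈ S.M, ¬ S.Mon g →
      Cfsg.Omega F ⇑(plusQ F 3) ≤ S.M) :
    Cfsg.Geo.IsMaximalIn (Cfsg.Geo.specialLinear (Fin 4) F)
      (Cfsg.Geo.subgroupNormalizer R ⊓ Cfsg.Geo.specialLinear (Fin 4) F) := by
  haveI : Fact p.Prime := ⟨hp⟩
  haveI : CharP F p := charP_of_card_eq_prime hF
  have h2 : (2 : F) ≠ 0 := by
    intro h
    have := (CharP.cast_eq_zero_iff F p 2).1 (by exact_mod_cast h)
    have := Nat.le_of_dvd two_pos this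
    have := hp.two_le
    omega
  obtain ⟨q, e, -, -, hcases⟩ := hR.field
  obtain ⟨-, -, hZ, -, m, hm⟩ : 2 = 2 ∧ e = 1 ∧ Nat.card (Subgroup.center R) = 4 ∧ 4 ≤ Fintype.card (Fin 4) ∧
      ∃ m : ℕ, Nat.card R = 2 ^ (2 + 2 * m) := by
    rcases hcases with ⟨h, -⟩ | h | ⟨-, -, h, -⟩
    · exact absurd h (by decide)
    · exact h
    · simp at h
  have hR6 : Nat.card R = 2 ^ 6 := card_eq h2 hR.symplecticType hR.absIrred hZ
  obtain ⟨i, D⟩ := mkData h2 hR.symplecticType hR.absIrred hR6 hZ
  obtain ⟨a, hG⟩ := D.exists_gens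
  obtain ⟨P, hP⟩ := exists_std_conj h2 hG
  refine isMaximalIn_of inf_le_right (fun hle => ?_) fun N hN hNK g hgN hg => ?_
  · let t : SpecialLinearGroup (Fin 4) F := ⟨!![1, 1, 0, 0; 0, 1, 0, 0; 0, 0, 1, 0; 0, 0, 0, 1], by
      simp [Matrix.det_succ_row_zero, Fin.sum_univ_succ, Fin.succAbove]⟩
    have ht := (hle (Aschbacher.mem_specialLinear.2 (emb_det P t))).1
    have hs2 : emb P (sgen 2) ∈ R := by
      obtain ⟨w, hw, hwe⟩ := hG.mem 2
      rwa [show emb P (sgen 2) = w from Units.ext ((emb_sgen hP 2).trans hwe.symm)]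
    obtain ⟨c, b, -, hb⟩ := hG.cover D
      ⟨_, (Subgroup.mem_normalizer_iff.1 ht _).1 hs2, rfl⟩
    set u : Q4 F := !![1, -1, 0, 0; 0, 1, 0, 0; 0, 0, 1, 0; 0, 0, 0, 1] with hu
    have hinv : ((t⁻¹ : SpecialLinearGroup (Fin 4) F) : Q4 F) = u := by
      have h1 : (t : Q4 F) * u = 1 := by
        ext r k
        fin_cases r <;> fin_cases k <;> simp [t, hu, Matrix.mul_apply, Fin.sum_univ_four]
      calc ((t⁻¹ : SpecialLinearGroup (Fin 4) F) : Q4 F)
          = ((t⁻¹ : SpecialLinearGroup (Fin 4) F) : Q4 F) * ((t : Q4 F) * u) := by rw [h1, mul_one]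
        _ = ((t⁻¹ * t : SpecialLinearGroup (Fin 4) F) : Q4 F) * u := by
            rw [← mul_assoc]; rfl
        _ = u := by
            rw [inv_mul_cancel]; exact one_mul u
    rw [← map_inv, ← map_mul, ← map_mul, emb_val] at hb
    have h1 : ((t * sgen 2 * t⁻¹ : SpecialLinearGroup (Fin 4) F) : Q4 F) = c • mono std b := by
      have h := congrArg (fun X => ((P⁻¹ : H4 F) : Q4 F) * X * (P : Q4 F)) hb
      simp only [Matrix.mul_smul, Matrix.smul_mul] at h
      rw [show ((P⁻¹ : H4 F) : Q4 F) * mono a b * (P : Q4 F) = mono std b by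
        rw [mul_assoc, mono_transfer hP, ← mul_assoc, ← Units.val_mul, inv_mul_cancel, Units.val_one, one_mul],
        ← mul_assoc, ← mul_assoc, ← Units.val_mul, inv_mul_cancel, Units.val_one, one_mul, mul_assoc,
        ← Units.val_mul, inv_mul_cancel, Units.val_one, mul_one] at h
      exact h
    change (t : Q4 F) * (sgen (F := F) 2 : Q4 F) * ((t⁻¹ : SpecialLinearGroup (Fin 4) F) : Q4 F) = _ at h1
    rw [hinv] at h1
    have e0 := congrFun (congrFun h1 0) 0
    have e1 := congrFun (congrFun h1 0) 1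
    have h2' : (1 : F) + 1 ≠ 0 := by rwa [one_add_one_eq_two]
    obtain ⟨b0, b1, b2, b3⟩ := b
    cases b0 <;> cases b1 <;> cases b2 <;> cases b3 <;>
      simp [t, hu, sgen, mono, std, Matrix.mul_apply, Fin.sum_univ_four] at e0 e1 <;>
      first
        | exact h2' e1
        | exact h2' (by linear_combination e1)
        | exact h2' (by linear_combination -e1)
  · obtain ⟨x, hx⟩ := exists_emb P (Aschbacher.mem_specialLinear.1 (hNK hgN))
    let M' : Subgroup (Cfsg.isometryGroup F ⇑(plusQ F 3)) := (N.comap (emb P)).map Klein.hom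
    have hM' : M' ≤ Cfsg.Omega F ⇑(plusQ F 3) := by
      rw [← Klein.range_eq h2]; exact Subgroup.map_le_range _ _
    have hmem : ∀ x, emb P x ∈ Cfsg.Geo.subgroupNormalizer R → emb P x ∈ N := fun x hx =>
      hN ⟨hx, Aschbacher.mem_specialLinear.2 (emb_det P x)⟩
    let S₀ : Setup (plusQ F 3) 6 :=
      { nd := plusQ_nondeg F 3
        two := h2
        five := by norm_num
        five' := by simp
        c := 1
        c_ne := one_ne_zero
        e := frame i
        value := frame_value D.isq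
        orth := frame_orth
        span := frame_span h2 D.isq
        M := Cfsg.Omega F ⇑(plusQ F 3)
        mono_mem := fun g hg _ => hg }
    have hmono : ∀ g ∈ Cfsg.Omega F ⇑(plusQ F 3),
        (∀ k, ∃ l, ∃ c : F, act g (frame i k) = c • frame i l) → g ∈ M' := by
      intro h hh hm'
      rw [← Klein.range_eq h2] at hh
      obtain ⟨y, rfl⟩ := hh
      exact ⟨y, hmem y (normalizer_of_mon hP D hG S₀ rfl hm'), rfl⟩
    let S : Setup (plusQ F 3) 6 := { S₀ with M := M', mono_mem := hmono }
    have hgx : Klein.hom x ∈ S.M := ⟨x, show emb P x ∈ N by rw [hx]; exact hgN, rfl⟩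
    have hnm : ¬ S.Mon (Klein.hom x) := fun h =>
      hg ⟨hx ▸ normalizer_of_mon hP D hG S rfl h, hNK hgN⟩
    have hall := hsix S hM' _ hgx hnm
    intro h hh
    obtain ⟨y, rfl⟩ := exists_emb P (Aschbacher.mem_specialLinear.1 hh)
    obtain ⟨z, hz, hzy⟩ := hall (show Klein.hom y ∈ Cfsg.Omega F ⇑(plusQ F 3) by
      rw [← Klein.range_eq h2]; exact ⟨y, rfl⟩)
    have hk : Klein.hom (y * z⁻¹) = 1 := by rw [map_mul, map_inv, hzy, mul_inv_cancel]
    have hyz : emb P (y * z⁻¹) ∈ N := by
      refine hmem _ (normalizer_of_mon hP D hG S rfl ?_)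
      rw [hk]
      exact UnitFrame.Setup.Mon.one
    have := mul_mem hyz (show emb P z ∈ N from hz)
    rwa [← map_mul, inv_mul_cancel_right] at this

end Cfsg.Agent.Forms.Max.SL4.SympType
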