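import Cfsg.Agent.Lib.Forms.Max.SL4.SympTypeFrame
import Cfsg.Agent.Lib.Forms.Max.UnitFrame.Six.Finish

/-!
# Symplectic-type normalisers are maximal in the special linear group of degree four
-/

set_option autoImplicit false

namespace Cfsg.Agent.Forms.Max.SL4.SympType

variable {F : Type*} [Field F] [Fintype F]

/-- the class C6 groups of degree four -/
theorem maximal (p : ℕ) (R : Subgroup (Matrix.GeneralLinearGroup (Fin 4) F)) (hp : p.Prime)
    (hF : Fintype.card F = p) (hp4 : p % 4 = 1) (hR : Cfsg.Geo.IsLinearSymplecticTypeData 2 R) :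
    Cfsg.Geo.IsMaximalIn (Cfsg.Geo.specialLinear (Fin 4) F)
      (Cfsg.Geo.subgroupNormalizer R ⊓ Cfsg.Geo.specialLinear (Fin 4) F) :=
  maximal_of p hp hF hp4 hR fun _S hM _g hg hng => UnitFrame.Setup.omega_le_six rfl (hF ▸ hp) hM hg hng

end Cfsg.Agent.Forms.Max.SL4.SympType
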